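import Groth.Agent.LFDesc.Trivial

/-!
# Flat base change for quasi-compact quasi-separated morphisms
-/

set_option autoImplicit false
set_option linter.style.haveILetI false
set_option backward.isDefEq.respectTransparency false
set_option backward.isDefEq.respectTransparency.types false

universe u

open CategoryTheory CategoryTheory.Limits AlgebraicGeometry TopologicalSpace Opposite
open scoped TensorProduct

noncomputable section

namespace Groth.Agent.ParaFLib.QSepBC

open Groth.Agent.LFDesc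
open Groth.Agent.PullStalk.Sky

section Scheme

variable {X S S' X' : Scheme.{u}} (f : X ⟶ S) (g : S' ⟶ S) (p : X' ⟶ X) (q : X' ⟶ S')
  (M : X.Modules) {US : S.Opens} {UT : S'.Opens} (hT : UT ≤ g ⁻¹ᵁ US)

variable (H : IsPullback p q f g) [M.IsQuasicoherent]

/-- Injectivity of base change for sections over a quasi-compact open. -/
theorem Φ_injective_of_isCompact [Flat g] (hUS : IsAffineOpen US) (hUT : IsAffineOpen UT) {V : X.Opens}
    (h : V ≤ f ⁻¹ᵁ US) (hV : IsCompact (V : Set X)) : Function.Injective (Φ f g p q M hT H.w h) := by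
  letI := (g.appLE US UT hT).hom.toAlgebra
  haveI : Module.Flat Γ(S, US) Γ(S', UT) :=
    RingHom.flat_algebraMap_iff.1 (HasRingHomProperty.appLE @Flat g inferInstance ⟨US, hUS⟩ ⟨UT, hUT⟩ hT)
  obtain ⟨s, hs, e⟩ := isCompact_and_isOpen_iff_finite_and_eq_biUnion_affineOpens.mp ⟨hV, V.2⟩
  haveI : Finite s := hs.to_subtype
  have hle : ∀ i : s, i.1.1 ≤ V := fun i x hx => by
    show x ∈ (V : Set X)
    rw [e]
    exact Set.mem_biUnion i.2 hx
  have hcovX : V ≤ ⨆ i : s, i.1.1 := fun x hx => by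
    obtain ⟨W, hW, hxW⟩ := Set.mem_iUnion₂.1 (show x ∈ ⋃ W ∈ s, ((W : X.Opens) : Set X) from
      e ▸ (hx : x ∈ (V : Set X)))
    exact Opens.mem_iSup.2 ⟨⟨W, hW⟩, hxW⟩
  let ψ := fun i : s => secRes f M h ((hle i).trans h) (hle i)
  have hψ : Function.Injective (LinearMap.pi ψ) := fun a b hab =>
    QCoh.eq_of_locally_eq M (fun i => hle i) hcovX a b fun i => congrFun hab i
  rw [injective_iff_map_eq_zero]
  intro z hz
  refine eq_zero_of_lTensor_eq_zero ψ hψ z fun i => ?_
  refine (Φ_bijective_of_isAffineOpen f g p q M hT H hUS hUT ((hle i).trans h) i.1.2).1 ?_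
  rw [map_zero, ← res_Φ f g p q M hT H.w h ((hle i).trans h) (hle i) z, hz]
  exact map_zero _

/-- Flat base change for sections. -/
theorem Φ_bijective [QuasiCompact f] [QuasiSeparated f] [Flat g] (hUS : IsAffineOpen US) (hUT : IsAffineOpen UT) :
    Function.Bijective (Φ f g p q M hT H.w (le_refl (f ⁻¹ᵁ US))) := by
  letI := (g.appLE US UT hT).hom.toAlgebra
  haveI : Module.Flat Γ(S, US) Γ(S', UT) :=
    RingHom.flat_algebraMap_iff.1 (HasRingHomProperty.appLE @Flat g inferInstance ⟨US, hUS⟩ ⟨UT, hUT⟩ hT)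
  obtain ⟨s, hs, e⟩ := isCompact_and_isOpen_iff_finite_and_eq_biUnion_affineOpens.mp
    ⟨f.isCompact_preimage hUS.isCompact, (f ⁻¹ᵁ US).2⟩
  haveI : Finite s := hs.to_subtype
  have hle : ∀ i : s, i.1.1 ≤ f ⁻¹ᵁ US := fun i x hx => by
    show x ∈ ((f ⁻¹ᵁ US : X.Opens) : Set X)
    rw [e]
    exact Set.mem_biUnion i.2 hx
  have hcov : ∀ x ∈ f ⁻¹ᵁ US, ∃ i : s, x ∈ i.1.1 := fun x hx => by
    obtain ⟨W, hW, hxW⟩ := Set.mem_iUnion₂.1 (show x ∈ ⋃ W ∈ s, ((W : X.Opens) : Set X) from
      e ▸ (hx : x ∈ ((f ⁻¹ᵁ US : X.Opens) : Set X)))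
    exact ⟨⟨W, hW⟩, hxW⟩
  have hcovX : f ⁻¹ᵁ US ≤ ⨆ i : s, i.1.1 := fun x hx => Opens.mem_iSup.2 (hcov x hx)
  have hqs : IsQuasiSeparated (α := X) (f ⁻¹ᵁ US) := by
    haveI : IsAffine _ := hUS
    exact (isQuasiSeparated_iff_quasiSeparatedSpace _ (f ⁻¹ᵁ US).2).2 (quasiSeparatedSpace_of_quasiSeparated (f ∣_ US))
  have hcpt : ∀ k : s × s, IsCompact ((k.1.1.1 ⊓ k.2.1.1 : X.Opens) : Set X) := fun k =>
    hqs _ _ (hle k.1) k.1.1.1.2 k.1.1.2.isCompact (hle k.2) k.2.1.1.2 k.2.1.2.isCompact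
  let ψ := fun i : s => secRes f M (le_refl (f ⁻¹ᵁ US)) (hle i) (hle i)
  have hV : ∀ k : s × s, k.1.1.1 ⊓ k.2.1.1 ≤ f ⁻¹ᵁ US := fun k => inf_le_left.trans (hle k.1)
  let d := fun k : s × s => (secRes f M (hle k.1) (hV k) inf_le_left).comp (LinearMap.proj (R := Γ(S, US)) (φ := fun i : s => Sec f M (hle i)) k.1) -
    (secRes f M (hle k.2) (hV k) inf_le_right).comp
      (LinearMap.proj (R := Γ(S, US)) (φ := fun i : s => Sec f M (hle i)) k.2)
  have hψ : Function.Injective (LinearMap.pi ψ) := fun a b hab =>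
    QCoh.eq_of_locally_eq M (fun i => hle i) hcovX a b fun i => congrFun hab i
  have hP : ∀ i : s, over p q UT i.1.1 ≤ over p q UT (f ⁻¹ᵁ US) := fun i =>
    inf_le_inf_right _ (p.preimage_mono (hle i))
  have hcov' : over p q UT (f ⁻¹ᵁ US) ≤ ⨆ i : s, over p q UT i.1.1 := fun x hx => by
    obtain ⟨i, hi⟩ := hcov _ hx.1
    exact Opens.mem_iSup.2 ⟨i, hi, hx.2⟩
  constructor
  · rw [injective_iff_map_eq_zero]
    intro z hz
    refine eq_zero_of_lTensor_eq_zero ψ hψ z fun i => ?_
    refine (Φ_bijective_of_isAffineOpen f g p q M hT H hUS hUT (hle i) i.1.2).1 ?_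
    rw [map_zero, ← res_Φ f g p q M hT H.w (le_refl _) (hle i) (hle i) z, hz]
    exact map_zero _
  · intro w
    classical
    cases nonempty_fintype s
    choose zi hzi using fun i : s =>
      (Φ_bijective_of_isAffineOpen f g p q M hT H hUS hUT (hle i) i.1.2).2 (QCoh.res _ (hP i) w)
    let z' := (TensorProduct.piRight Γ(S, US) Γ(S, US) Γ(S', UT) fun i : s => Sec f M (hle i)).symm zi
    have hz' : ∀ i, LinearMap.lTensor Γ(S', UT)
        (LinearMap.proj i : (∀ i : s, Sec f M (hle i)) →ₗ[Γ(S, US)] Sec f M (hle i)) z' = zi i := by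
      intro i
      have h1 : ∀ y, LinearMap.lTensor Γ(S', UT)
          (LinearMap.proj i : (∀ i : s, Sec f M (hle i)) →ₗ[Γ(S, US)] Sec f M (hle i)) y =
          TensorProduct.piRight Γ(S, US) Γ(S, US) Γ(S', UT) (fun i : s => Sec f M (hle i)) y i := by
        intro y
        induction y using TensorProduct.induction_on with
        | zero => simp
        | tmul b m => simp
        | add a b ha hb => simp [ha, hb]
      rw [h1]
      exact congrFun (LinearEquiv.apply_symm_apply _ zi) i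
    have hex : Function.Exact (LinearMap.pi ψ) (LinearMap.pi d) := by
      intro y
      constructor
      · intro hy
        obtain ⟨m, hm, -⟩ := TopCat.Sheaf.existsUnique_gluing' ⟨M.presheaf, M.isSheaf⟩ (fun i : s => i.1.1)
          (f ⁻¹ᵁ US) (fun i => homOfLE (hle i)) hcovX (fun i => (y i : Γ(M, i.1.1)))
          (fun i j => sub_eq_zero.1 (congrFun hy (i, j)))
        exact ⟨m, funext fun i => hm i⟩
      · rintro ⟨m, rfl⟩
        funext k
        exact sub_eq_zero.2 ((QCoh.res_res M _ _ (show Γ(M, f ⁻¹ᵁ US) from m)).trans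
          (QCoh.res_res M _ _ (show Γ(M, f ⁻¹ᵁ US) from m)).symm)
    have hw' : ∀ k, LinearMap.lTensor Γ(S', UT) (d k) z' = 0 := by
      intro k
      refine Φ_injective_of_isCompact f g p q M hT H hUS hUT (hV k) (hcpt k) ?_
      rw [map_zero, LinearMap.lTensor_sub, LinearMap.sub_apply, map_sub, LinearMap.lTensor_comp,
        LinearMap.lTensor_comp, LinearMap.comp_apply, LinearMap.comp_apply, hz', hz',
        ← res_Φ f g p q M hT H.w (hle k.1) (hV k) inf_le_left, ← res_Φ f g p q M hT H.w (hle k.2) (hV k) inf_le_right,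
        hzi, hzi, QCoh.res_res, QCoh.res_res, sub_self]
    obtain ⟨z, hz⟩ := exists_of_compatible ψ d hex z' hw'
    refine ⟨z, QCoh.eq_of_locally_eq _ hP hcov' _ _ fun i => ?_⟩
    rw [res_Φ f g p q M hT H.w (le_refl _) (hle i) (hle i) z, ← hzi i, ← hz' i, ← hz,
    ← LinearMap.comp_apply, ← LinearMap.lTensor_comp, LinearMap.proj_pi]

end Scheme

variable {X S S' X' : Scheme.{u}} {f : X ⟶ S} {g : S' ⟶ S} {p : X' ⟶ X} {q : X' ⟶ S'}

/-- An invertible module which is trivial over the base after an fpqc base change is trivial over the base. -/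
theorem isIso_counit_of_isPullback (H : IsPullback p q f g) [QuasiCompact f] [QuasiSeparated f]
    [AlgebraicGeometry.Flat g] [Surjective g] [QuasiCompact g]
    (hf : ∀ U : S.Opens, Function.Bijective (f.app U))
    (L : X.Modules) (hL : PicF.IsInvertible L) {N' : S'.Modules} (hN' : PicF.IsInvertible N')
    (φ : (Scheme.Modules.pullback p).obj L ≅ (Scheme.Modules.pullback q).obj N') :
    PicF.IsInvertible ((Scheme.Modules.pushforward f).obj L) ∧
      IsIso ((Scheme.Modules.pullbackPushforwardAdjunction f).counit.app L) := by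
  haveI : L.IsQuasicoherent := ProjTwist.isQCoh_of_isInvertible hL
  haveI hNq : ((Scheme.Modules.pushforward f).obj L).IsQuasicoherent := QCoh.isQuasicoherent_pushforward f L
  let N := (Scheme.Modules.pushforward f).obj L
  let P := (Scheme.Modules.pullback p).obj L
  let adjg := Scheme.Modules.pullbackPushforwardAdjunction g
  let adjq := Scheme.Modules.pullbackPushforwardAdjunction q
  let ψ : N ⟶ (Scheme.Modules.pushforward g).obj ((Scheme.Modules.pushforward q).obj P) :=
    (Scheme.Modules.pushforward f).map ((Scheme.Modules.pullbackPushforwardAdjunction p).unit.app L) ≫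
      (Scheme.Modules.pushforwardComp p f).hom.app P ≫ (Scheme.Modules.pushforwardCongr H.w).hom.app P ≫
      (Scheme.Modules.pushforwardComp q g).inv.app P
  have hle : ∀ U : S.Opens, q ⁻¹ᵁ (g ⁻¹ᵁ U) ≤ p ⁻¹ᵁ (f ⁻¹ᵁ U) := fun U x hx => by
    show f (p x) ∈ U
    rw [← Scheme.Hom.comp_apply, H.w, Scheme.Hom.comp_apply]
    exact hx
  have hψ : ∀ (U : S.Opens) (m : Γ(L, f ⁻¹ᵁ U)), ψ.app U m = LimTop.unitSec p L (hle U) m := fun U m => rfl
  let θ : (Scheme.Modules.pullback g).obj N ⟶ (Scheme.Modules.pushforward q).obj P :=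
    (adjg.homEquiv N _).symm ψ
  have hθψ : adjg.unit.app N ≫ (Scheme.Modules.pushforward g).map θ = ψ := by
    exact (Adjunction.homEquiv_unit adjg N _ θ).symm.trans (Equiv.apply_symm_apply _ ψ)
  have hθ : ∀ (US : S.Opens) (UT : S'.Opens) (hT : UT ≤ g ⁻¹ᵁ US) (m : Γ(L, f ⁻¹ᵁ US)),
      θ.app UT (LimTop.unitSec g N hT m) =
        (show Γ((Scheme.Modules.pushforward q).obj P, UT) from
          LimTop.unitSec p L ((q.preimage_mono hT).trans (hle US)) m) := by
    intro US UT hT m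
    rw [LimTop.unitSec_apply, QCoh.app_res]
    refine (congrArg (QCoh.res ((Scheme.Modules.pushforward q).obj P) hT)
      (congrArg (fun χ : N ⟶ _ => Scheme.Modules.Hom.app χ US m) hθψ)).trans ?_
    exact (congrArg (QCoh.res ((Scheme.Modules.pushforward q).obj P) hT) (hψ US m)).trans
      (LimTop.res_unitSec p L (hle US) (q.preimage_mono hT) m)
  haveI : IsIso θ := by
    refine isIso_of_bijective_small θ fun x W hx => ?_
    obtain ⟨US, hUS, hxUS, -⟩ := exists_isAffineOpen_mem_and_subset (X := S) (Opens.mem_top (g x))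
    obtain ⟨UT, hUT, hxV, hVle⟩ := exists_isAffineOpen_mem_and_subset (X := S') (show x ∈ W ⊓ g ⁻¹ᵁ US from ⟨hx, hxUS⟩)
    have hT : UT ≤ g ⁻¹ᵁ US := fun y hy => (hVle hy).2
    refine ⟨UT, hxV, fun y hy => (hVle hy).1, ?_⟩
    letI := (g.appLE US UT hT).hom.toAlgebra
    letI := LimTop.secModule g N hT
    haveI : IsScalarTower Γ(S, US) Γ(S', UT) Γ((Scheme.Modules.pullback g).obj N, UT) :=
      IsScalarTower.of_algebraMap_smul fun _ _ => rfl
    have hbc := LimTop.isBaseChange_unitSec g N hT hUS hUT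
    have hover : over p q UT (f ⁻¹ᵁ US) = q ⁻¹ᵁ UT :=
      le_antisymm inf_le_right (le_inf ((q.preimage_mono hT).trans (hle US)) le_rfl)
    have hr : Function.Bijective (QCoh.res P hover.ge) := by
      have : IsIso (homOfLE hover.ge) := ⟨homOfLE hover.le, rfl, rfl⟩
      exact (ConcreteCategory.isIso_iff_bijective _).1 (inferInstanceAs (IsIso (P.presheaf.map (homOfLE hover.ge).op)))
    let j : Sec f L (le_refl (f ⁻¹ᵁ US)) ≃ₗ[Γ(S, US)] Γ(N, US) :=
      { toFun := fun m => m
        invFun := fun m => m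
        left_inv := fun _ => rfl
        right_inv := fun _ => rfl
        map_add' := fun _ _ => rfl
        map_smul' := fun a m => by
          show (f.appLE US (f ⁻¹ᵁ US) le_rfl a : Γ(X, f ⁻¹ᵁ US)) • (show Γ(L, f ⁻¹ᵁ US) from m) =
            (f.app US a : Γ(X, f ⁻¹ᵁ US)) • (show Γ(L, f ⁻¹ᵁ US) from m)
          rw [Scheme.Hom.app_eq_appLE] }
    let Λ : Γ(S', UT) ⊗[Γ(S, US)] Sec f L (le_refl (f ⁻¹ᵁ US)) → Γ((Scheme.Modules.pullback g).obj N, UT) :=
      fun z => hbc.equiv (LinearEquiv.lTensor Γ(S', UT) j z)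
    have key : ∀ z : Γ(S', UT) ⊗[Γ(S, US)] Sec f L (le_refl (f ⁻¹ᵁ US)), (θ.app UT (Λ z) : Γ(P, q ⁻¹ᵁ UT)) =
        QCoh.res P hover.ge (Φ f g p q L hT H.w (le_refl (f ⁻¹ᵁ US)) z) := by
      intro z
      induction z using TensorProduct.induction_on with
      | zero => simp only [Λ, map_zero]
      | tmul b m =>
        show θ.app UT (hbc.equiv (b ⊗ₜ (show Γ(N, US) from m))) = QCoh.res P hover.ge (Φ f g p q L hT H.w (le_refl _) (b ⊗ₜ m))
        rw [IsBaseChange.equiv_tmul, Φ_tmul, QCoh.res_smul, LimTop.res_unitSec, Scheme.Modules.Hom.app_smul]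
        refine (congrArg (fun y => b • y) (hθ US UT hT m)).trans ?_
        show (q.app UT b : Γ(X', q ⁻¹ᵁ UT)) •
          (LimTop.unitSec p L ((q.preimage_mono hT).trans (hle US)) (show Γ(L, f ⁻¹ᵁ US) from m) : Γ(P, q ⁻¹ᵁ UT)) = _
        refine congrArg (fun r : Γ(X', q ⁻¹ᵁ UT) =>
          r • (LimTop.unitSec p L ((q.preimage_mono hT).trans (hle US)) (show Γ(L, f ⁻¹ᵁ US) from m) : Γ(P, q ⁻¹ᵁ UT))) ?_
        rw [Scheme.Hom.app_eq_appLE]
        exact (ConcreteCategory.congr_hom (q.appLE_map _ _) b).symm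
      | add a c ha hc =>
        simp only [Λ, map_add] at ha hc ⊢
        rw [ha, hc]
    have hΛ : Function.Bijective Λ := hbc.equiv.bijective.comp (LinearEquiv.lTensor Γ(S', UT) j).bijective
    rw [← Function.Bijective.of_comp_iff _ hΛ]
    rw [show (θ.app UT) ∘ Λ = (QCoh.res P hover.ge) ∘ (Φ f g p q L hT H.w (le_refl (f ⁻¹ᵁ US))) from funext key]
    exact hr.comp (Φ_bijective f g p q L hT H hUS hUT)
  have hq : ∀ U : S'.Opens, Function.Bijective (q.app U) := bijective_app_of_isPullback H hf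
  haveI hη : IsIso (adjq.unit.app N') := LFFrame.isIso_unit q hq N' fun y => by
    obtain ⟨U, e, hy, he⟩ := exists_frame_one hN' y
    exact ⟨U, 1, e, hy, he⟩
  have hεP : IsIso (adjq.counit.app P) := by
    haveI : IsIso ((Scheme.Modules.pullback q).map (adjq.unit.app N')) := inferInstance
    haveI h1 : IsIso (adjq.counit.app ((Scheme.Modules.pullback q).obj N')) := by
      have h2 := adjq.left_triangle_components N'
      haveI : IsIso ((Scheme.Modules.pullback q).map (adjq.unit.app N') ≫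
          adjq.counit.app ((Scheme.Modules.pullback q).obj N')) := by rw [h2]; exact IsIso.id _
      exact IsIso.of_isIso_comp_left ((Scheme.Modules.pullback q).map (adjq.unit.app N')) _
    exact (NatTrans.isIso_app_iff_of_iso adjq.counit φ).2 h1
  have hN : PicF.IsInvertible N := by
    haveI : IsIso θ := inferInstance
    exact isInvertible_of_pullback g N (PicCl.isInvertible_of_iso
      (asIso (adjq.unit.app N') ≪≫ ((Scheme.Modules.pushforward q).mapIso φ).symm ≪≫ (asIso θ).symm) hN')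
  refine ⟨hN, LFFrame.isIso_of_locally_bijective _ fun x => ?_⟩
  obtain ⟨U, e, hxU, he⟩ := exists_frame_one hN (f x)
  refine ⟨f ⁻¹ᵁ U, hxU, fun V hV => ?_⟩
  suffices hs : LFFrame.IsFrame L (f ⁻¹ᵁ U) (show Fin 1 → Γ(L, f ⁻¹ᵁ U) from e) from
    hs.counit_bijective f hf V hV
  -- the frame on the base change
  have h1 := isFrame_of_iso θ (he.pullback g)
  have h2 := isFrame_of_iso (adjq.counit.app P) (h1.pullback q)
  have h3 : ∀ i, (adjq.counit.app P).app (q ⁻¹ᵁ (g ⁻¹ᵁ U))
      (LFFrame.unitSec q _ (g ⁻¹ᵁ U) (θ.app (g ⁻¹ᵁ U) (LFFrame.unitSec g N U (e i)))) =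
      LimTop.unitSec p L (hle U) (e i) := by
    intro i
    refine (congrArg (fun χ : (Scheme.Modules.pushforward q).obj P ⟶ _ => Scheme.Modules.Hom.app χ (g ⁻¹ᵁ U)
      (θ.app (g ⁻¹ᵁ U) (LFFrame.unitSec g N U (e i)))) (adjq.right_triangle_components P)).trans ?_
    exact (congrArg (fun χ : N ⟶ _ => Scheme.Modules.Hom.app χ U (e i)) hθψ).trans (hψ U (e i))
  refine LFFrame.isFrame_of_stalkComb_bijective fun z hz => ?_
  haveI : Surjective p := MorphismProperty.of_isPullback H.flip inferInstance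
  obtain ⟨z', rfl⟩ := p.surjective z
  have hz' : z' ∈ q ⁻¹ᵁ (g ⁻¹ᵁ U) := by
    show g (q z') ∈ U
    rw [← Scheme.Hom.comp_apply, ← H.w, Scheme.Hom.comp_apply]
    exact hz
  obtain ⟨t, ht⟩ := (h2.stalkComb_bijective z' hz').2 ((PullStalk.Basic.unitStalkHom p L z') 
    ((exists_basis_stalk hL (p z')).some 0))
  let bL := (exists_basis_stalk hL (p z')).some
  letI := (p.stalkMap z').hom.toAlgebra
  letI := PullStalk.Basic.moduleOver p L z'
  haveI : IsScalarTower (X.presheaf.stalk (p z')) (X'.presheaf.stalk z') (P.presheaf.stalk z') :=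
    IsScalarTower.of_algebraMap_smul fun _ _ => rfl
  let bP := (PullStalk.Basic.isBaseChange_unitStalk p L z').basis bL
  let a : X.presheaf.stalk (p z') := bL.repr (germM L (f ⁻¹ᵁ U) (p z') hz (e 0)) 0
  have ha : germM L (f ⁻¹ᵁ U) (p z') hz (e 0) = a • bL 0 := by
    conv_lhs => rw [← bL.sum_repr (germM L (f ⁻¹ᵁ U) (p z') hz (e 0)), Fin.sum_univ_one]
  have hga : germM P (q ⁻¹ᵁ (g ⁻¹ᵁ U)) z' hz' ((adjq.counit.app P).app (q ⁻¹ᵁ (g ⁻¹ᵁ U))
      (LFFrame.unitSec q _ (g ⁻¹ᵁ U) (θ.app (g ⁻¹ᵁ U) (LFFrame.unitSec g N U (e 0))))) =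
      (p.stalkMap z').hom a • bP 0 := by
    rw [h3 0, LimTop.germ_unitSec, ha, IsBaseChange.basis_apply]
    exact map_smul (PullStalk.Basic.unitStalk p L z') a (bL 0)
  have hau : IsUnit a := by
    have h4 : t 0 • ((p.stalkMap z').hom a • bP 0) = bP 0 := by
      rw [← hga, IsBaseChange.basis_apply]
      refine Eq.trans ?_ ht
      simp [LFFrame.stalkComb, Fintype.linearCombination_apply]
    have h5 : t 0 * (p.stalkMap z').hom a = 1 := by
      have := congrArg (fun w => bP.repr w 0) h4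
      simpa [map_smul, bP.repr_self] using this
    exact isUnit_of_map_unit (p.stalkMap z').hom a (IsUnit.of_mul_eq_one _ (by rw [mul_comm]; exact h5))
  have hcomb : LFFrame.stalkComb L (show Fin 1 → Γ(L, f ⁻¹ᵁ U) from e) (p z') hz =
      (bL.unitsSMul fun _ => hau.unit).equivFun.symm.toLinearMap := by
    apply LinearMap.ext
    intro c
    simp [LFFrame.stalkComb, Fintype.linearCombination_apply, Module.Basis.equivFun_symm_apply,
      Module.Basis.unitsSMul_apply, Units.smul_def, ha, smul_smul]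
  rw [hcomb]
  exact LinearEquiv.bijective _

end Groth.Agent.ParaFLib.QSepBC
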