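import Groth.Agent.ParaFLib.Pairs
import Groth.Agent.LineCoc.Basic

/-!
# Cocycles of functions on an open subset
-/

set_option backward.isDefEq.respectTransparency.types false
set_option maxHeartbeats 800000

noncomputable section

universe u

open CategoryTheory AlgebraicGeometry TopologicalSpace Opposite

namespace Groth.Agent.ParaFLib.OpenData

open Groth.Agent.QCoh Groth.Agent.Props.GenLocus

variable {X : Scheme.{u}} {U : X.Opens}

/-- A cocycle on a cover of the open `U` by opens of `X` inside `U`. -/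
structure Data (U : X.Opens) where
  /-- indices -/
  ι : Type u
  /-- opens -/
  O : ι → X.Opens
  /-- transition functions -/
  a : ∀ i j, Γ(X, O i ⊓ O j)
  le : ∀ i, O i ≤ U
  cover : U ≤ iSup O
  self : ∀ i, a i i = 1
  coc : ∀ i j k (V : X.Opens) (h₁ : V ≤ O i ⊓ O j) (h₂ : V ≤ O j ⊓ O k) (h₃ : V ≤ O i ⊓ O k),
    rres h₁ (a i j) * rres h₂ (a j k) = rres h₃ (a i k)

/-- The cocycle is a coboundary. -/
def Triv (D : Data U) : Prop :=
  ∃ c : ∀ i, Γ(X, D.O i), (∀ i, IsUnit (c i)) ∧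
    ∀ i j, rres (inf_le_left : D.O i ⊓ D.O j ≤ _) (c i) = rres (inf_le_right : D.O i ⊓ D.O j ≤ _) (c j) * D.a i j

theorem rres_appLE {Z : Scheme.{u}} (g : Z ⟶ X) {A : X.Opens} {B V : Z.Opens} (h : B ≤ g ⁻¹ᵁ A) (h' : V ≤ B)
    (x : Γ(X, A)) : rres h' (g.appLE A B h x) = g.appLE A V (h'.trans h) x := by
  rw [← ConcreteCategory.comp_apply, Scheme.Hom.appLE_map]

theorem appLE_rres {Z : Scheme.{u}} (g : Z ⟶ X) {A A' : X.Opens} {V : Z.Opens} (h : V ≤ g ⁻¹ᵁ A') (h' : A' ≤ A)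
    (x : Γ(X, A)) : g.appLE A' V h (rres h' x) = g.appLE A V (h.trans (g.preimage_mono h')) x := by
  rw [← ConcreteCategory.comp_apply, Scheme.Hom.map_appLE]

/-- The cocycle on the open subscheme. -/
def toCocycle (D : Data U) : LineCoc.Cocycle (U : Scheme.{u}) where
  ι := D.ι
  W i := U.ι ⁻¹ᵁ D.O i
  a i j := U.ι.appLE (D.O i ⊓ D.O j) (U.ι ⁻¹ᵁ D.O i ⊓ U.ι ⁻¹ᵁ D.O j) le_rfl (D.a i j)
  cover x _ := by
    obtain ⟨i, hi⟩ := Opens.mem_iSup.mp (D.cover (show U.ι x ∈ U from x.2))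
    exact Opens.mem_iSup.mpr ⟨i, hi⟩
  self i := by rw [D.self, map_one]
  coc i j k V h₁ h₂ h₃ := by
    have hV : V ≤ U.ι ⁻¹ᵁ (U.ι ''ᵁ V) := (U.ι.preimage_image_eq V).ge
    have h1 : U.ι ''ᵁ V ≤ D.O i ⊓ D.O j := by rintro _ ⟨x, hx, rfl⟩; exact h₁ hx
    have h2 : U.ι ''ᵁ V ≤ D.O j ⊓ D.O k := by rintro _ ⟨x, hx, rfl⟩; exact h₂ hx
    have h3 : U.ι ''ᵁ V ≤ D.O i ⊓ D.O k := by rintro _ ⟨x, hx, rfl⟩; exact h₃ hx
    have := congrArg (U.ι.appLE (U.ι ''ᵁ V) V hV) (D.coc i j k _ h1 h2 h3)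
    rw [map_mul, appLE_rres, appLE_rres, appLE_rres] at this
    rw [rres_appLE, rres_appLE, rres_appLE]
    exact this

theorem bijective_app_ι {V : X.Opens} (h : V ≤ U) : Function.Bijective (U.ι.app V) := by
  have : IsIso (U.ι.app V) := Scheme.Hom.isIso_app U.ι V (by rw [Scheme.Opens.opensRange_ι]; exact h)
  exact (ConcreteCategory.isIso_iff_bijective _).mp this

theorem isGen_pushforward (L : (U : Scheme.{u}).Modules) {O : X.Opens} (hO : O ≤ U) (e : Γ(L, U.ι ⁻¹ᵁ O))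
    (he : IsGen L (U.ι ⁻¹ᵁ O) e) : IsGen ((Scheme.Modules.pushforward U.ι).obj L) O e := by
  intro V hV
  exact ((he (U.ι ⁻¹ᵁ V) (U.ι.preimage_mono hV)).comp (bijective_app_ι (hV.trans hO)))

/-- The module of the cocycle, extended to `X`. -/
theorem exists_module (D : Data U) : ∃ M : X.Modules, PicF.IsInvertible (M.restrict U.ι) ∧
    ∃ e : ∀ i, Γ(M, D.O i), (∀ i, IsGen M (D.O i) (e i)) ∧
      ∀ i j, res M (inf_le_right : D.O i ⊓ D.O j ≤ _) (e j) = D.a i j • res M (inf_le_left : D.O i ⊓ D.O j ≤ _) (e i) := by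
  let C := toCocycle D
  let M := (Scheme.Modules.pushforward U.ι).obj (LineCoc.mod C)
  refine ⟨M, PicCl.isInvertible_of_iso (restrictPushforwardIso U.ι (LineCoc.mod C)).symm (LineCoc.isInvertible C),
    fun i => LineCoc.gen C i, fun i => isGen_pushforward _ (D.le i) _ (LineCoc.isGen_gen C i), fun i j => ?_⟩
  refine (LineCoc.res_gen_eq C i j).trans ?_
  refine (congrArg (fun t : Γ((U : Scheme.{u}), C.W i ⊓ C.W j) => t • res (LineCoc.mod C) (inf_le_left : C.W i ⊓ C.W j ≤ _) (LineCoc.gen C i)) ?_).trans rfl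
  exact congrArg (fun g => (ConcreteCategory.hom g) (D.a i j)) (Scheme.Hom.appLE_eq_app U.ι (U := D.O i ⊓ D.O j))

variable {M : X.Modules}

theorem triv_of_isGen (D : Data U) (e : ∀ i, Γ(M, D.O i)) (he : ∀ i, IsGen M (D.O i) (e i))
    (hrel : ∀ i j, res M (inf_le_right : D.O i ⊓ D.O j ≤ _) (e j) = D.a i j • res M (inf_le_left : D.O i ⊓ D.O j ≤ _) (e i))
    (σ : Γ(M, U)) (hσ : IsGen M U σ) : Triv D := by
  have h : ∀ i, ∃ c : Γ(X, D.O i), res M (D.le i) σ = c • res M le_rfl (e i) := fun i =>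
    ((he i).exists_eq le_rfl _).exists
  choose c hc using h
  refine ⟨c, fun i => ?_, fun i j => ?_⟩
  · obtain ⟨b, hb, -⟩ := hσ.exists_eq (D.le i) (res M le_rfl (e i))
    refine IsUnit.of_mul_eq_one_right b ?_
    apply (he i).injective le_rfl
    rw [mul_smul, ← hc, ← hb, one_smul]
  · apply (he i).injective inf_le_left
    have h1 := congrArg (res M (inf_le_left : D.O i ⊓ D.O j ≤ _)) (hc i)
    have h2 := congrArg (res M (inf_le_right : D.O i ⊓ D.O j ≤ _)) (hc j)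
    rw [res_smul, res_res, res_res] at h1 h2
    rw [hrel, smul_smul] at h2
    exact h1.symm.trans h2

theorem exists_isGen_of_triv (D : Data U) (e : ∀ i, Γ(M, D.O i)) (he : ∀ i, IsGen M (D.O i) (e i))
    (hrel : ∀ i j, res M (inf_le_right : D.O i ⊓ D.O j ≤ _) (e j) = D.a i j • res M (inf_le_left : D.O i ⊓ D.O j ≤ _) (e i))
    (h : Triv D) : ∃ σ : Γ(M, U), IsGen M U σ := by
  obtain ⟨c, hu, hc⟩ := h
  obtain ⟨σ, hσ⟩ := exists_glue M D.le D.cover (fun i => c i • e i) fun i j => by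
    rw [res_smul, res_smul, hrel, smul_smul, hc]
  refine ⟨σ, IsGen.of_local fun x hx => ?_⟩
  obtain ⟨i, hi⟩ := Opens.mem_iSup.mp (D.cover hx)
  exact ⟨D.O i, D.le i, hi, by rw [hσ i]; exact (he i).smul_unit (hu i)⟩

/-- The cocycle of a family of generators. -/
def ofGens {ι : Type u} (O : ι → X.Opens) (hle : ∀ i, O i ≤ U) (hcov : U ≤ iSup O) (e : ∀ i, Γ(M, O i))
    (he : ∀ i, IsGen M (O i) (e i)) : Data U where
  ι := ι
  O := O
  le := hle
  cover := hcov
  a i j := ((he i).exists_eq (inf_le_left : O i ⊓ O j ≤ _) (res M inf_le_right (e j))).exists.choose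
  self i := by
    apply (he i).injective inf_le_left
    rw [← ((he i).exists_eq (inf_le_left : O i ⊓ O i ≤ _) (res M inf_le_right (e i))).exists.choose_spec, one_smul]
  coc i j k V h₁ h₂ h₃ := by
    apply (he i).injective (h₁.trans inf_le_left)
    have key : ∀ (p q : ι) (h : V ≤ O p ⊓ O q), res M (h.trans inf_le_right) (e q) =
        rres h ((he p).exists_eq (inf_le_left : O p ⊓ O q ≤ _) (res M inf_le_right (e q))).exists.choose •
          res M (h.trans inf_le_left) (e p) := fun p q h => by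
      have := congrArg (res M h) ((he p).exists_eq (inf_le_left : O p ⊓ O q ≤ _) (res M inf_le_right (e q))).exists.choose_spec
      rwa [res_smul, res_res, res_res] at this
    rw [← key i k h₃, key j k h₂, mul_comm, mul_smul, ← key i j h₁]

theorem ofGens_rel {ι : Type u} (O : ι → X.Opens) (hle : ∀ i, O i ≤ U) (hcov : U ≤ iSup O) (e : ∀ i, Γ(M, O i))
    (he : ∀ i, IsGen M (O i) (e i)) (i j : ι) :
    res M (inf_le_right : (ofGens O hle hcov e he).O i ⊓ (ofGens O hle hcov e he).O j ≤ _) (e j) =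
      (ofGens O hle hcov e he).a i j •
        (res M (inf_le_left : (ofGens O hle hcov e he).O i ⊓ (ofGens O hle hcov e he).O j ≤ _) (e i) :
          Γ(M, (ofGens O hle hcov e he).O i ⊓ (ofGens O hle hcov e he).O j)) :=
  ((he i).exists_eq (inf_le_left : O i ⊓ O j ≤ _) (res M inf_le_right (e j))).exists.choose_spec

theorem exists_isGen_of_iso {V : X.Opens} (φ : M.restrict V.ι ≅ Coh.structureModule (V : Scheme.{u})) :
    ∃ σ : Γ(M, V), IsGen M V σ := by
  obtain ⟨e, he⟩ := LFFrame.exists_isFrame_of_split (M := M) (fun _ : Fin 1 => φ.inv) (fun _ => φ.hom)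
    (fun i j => by simp [Subsingleton.elim i j]) (by simp)
  refine ⟨e 0, (isGen_iff_isFrame _).mpr ?_⟩
  rwa [show (fun _ : Fin 1 => e 0) = e from funext fun i => by rw [Subsingleton.elim i 0]]

theorem nonempty_iso_of_isGen {V : X.Opens} {σ : Γ(M, V)} (h : IsGen M V σ) :
    Nonempty (M.restrict V.ι ≅ Coh.structureModule (V : Scheme.{u})) :=
  LFFrame.IsFrame.nonempty_restrict_iso ((isGen_iff_isFrame _).mp h)

theorem exists_isGen_of_invertible_restrict (h : PicF.IsInvertible (M.restrict U.ι)) {x : X} (hx : x ∈ U) :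
    ∃ (V : X.Opens) (σ : Γ(M, V)), x ∈ V ∧ V ≤ U ∧ IsGen M V σ := by
  obtain ⟨W, hxW, ⟨i⟩⟩ := h ⟨x, hx⟩
  let k : (U.ι ''ᵁ W : Scheme.{u}) ⟶ (W : Scheme.{u}) := (U.ι.isoImage W).inv
  have hk : k ≫ W.ι ≫ U.ι = (U.ι ''ᵁ W).ι := Scheme.Hom.isoImage_inv_ι U.ι W
  obtain ⟨σ, hσ⟩ := exists_isGen_of_iso (M := M) (V := U.ι ''ᵁ W)
    ((Scheme.Modules.restrictFunctorCongr hk.symm).app M ≪≫
      (Scheme.Modules.restrictFunctorComp k (W.ι ≫ U.ι)).app M ≪≫
      (Scheme.Modules.restrictFunctor k).mapIso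
        ((Scheme.Modules.restrictFunctorComp W.ι U.ι).app M ≪≫ i) ≪≫
      Scheme.Modules.restrictUnitIso k)
  refine ⟨U.ι ''ᵁ W, σ, ⟨⟨x, hx⟩, hxW, rfl⟩, ?_, hσ⟩
  rintro _ ⟨z, -, rfl⟩
  exact z.2

theorem exists_isGen_of_picTrivial (hP : ParaF.PicTrivial (U : Scheme.{u}))
    (h : PicF.IsInvertible (M.restrict U.ι)) : ∃ σ : Γ(M, U), IsGen M U σ :=
  exists_isGen_of_iso (hP _ h).some

/-- On an open with trivial Picard group every cocycle is a coboundary. -/
theorem triv_of_picTrivial (hP : ParaF.PicTrivial (U : Scheme.{u})) (D : Data U) : Triv D := by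
  obtain ⟨M, hM, e, he, hrel⟩ := exists_module D
  obtain ⟨σ, hσ⟩ := exists_isGen_of_picTrivial hP hM
  exact triv_of_isGen D e he hrel σ hσ

end Groth.Agent.ParaFLib.OpenData
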