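import Groth.Agent.ParaFLib.Basic

/-!
# Parafactorial pairs: criteria, restriction to opens, changing the closed subset
-/

set_option backward.isDefEq.respectTransparency.types false

noncomputable section

universe u

open CategoryTheory AlgebraicGeometry TopologicalSpace Opposite

namespace Groth.Agent.ParaFLib

variable {X Y : Scheme.{u}}

theorem res_congr₂ {Z : Scheme.{u}} {A A' B B' : Z.Opens} (ea : A = A') (eb : B = B') (h : B ≤ A) (h' : B' ≤ A') :
    Function.Bijective (Z.presheaf.map (homOfLE h).op) ↔ Function.Bijective (Z.presheaf.map (homOfLE h').op) := by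
  subst ea; subst eb; rfl

theorem bijective_res_of_eq {Z : Scheme.{u}} {A B : Z.Opens} (e : B = A) (h : B ≤ A) :
    Function.Bijective (Z.presheaf.map (homOfLE h).op) := by
  subst e
  rw [Subsingleton.elim (homOfLE h) (𝟙 B), op_id, CategoryTheory.Functor.map_id]
  exact Function.bijective_id

/-- Bijectivity of restriction from every open to its trace on `U`. -/
def ResBijOn (U : X.Opens) : Prop :=
  ∀ V : X.Opens, Function.Bijective (X.presheaf.map (homOfLE (inf_le_left : V ⊓ U ≤ V)).op)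

theorem resBij_homOfLE {U : X.Opens} (h : ResBijOn U) (V : X.Opens) :
    ResBij (X.homOfLE (inf_le_left : V ⊓ U ≤ V)) := by
  intro W
  let j := X.homOfLE (inf_le_left : V ⊓ U ≤ V)
  have e : V.ι ''ᵁ (j ''ᵁ (j ⁻¹ᵁ W)) = (V.ι ''ᵁ W) ⊓ U := by
    rw [j.image_preimage_eq_opensRange_inf, Scheme.opensRange_homOfLE]
    ext x
    constructor
    · rintro ⟨z, ⟨hz, hzW⟩, rfl⟩
      exact ⟨⟨z, hzW, rfl⟩, hz.2⟩
    · rintro ⟨⟨z, hzW, rfl⟩, hzU⟩
      exact ⟨z, ⟨⟨z.2, hzU⟩, hzW⟩, rfl⟩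
  exact (res_congr₂ rfl e _ inf_le_left).mpr (h (V.ι ''ᵁ W))

theorem resBijOn_of_pair {Z : Closeds X} (h : ParaF.IsParafactorialPair X Z) : ResBijOn Z.compl := by
  intro V
  let j := X.homOfLE (inf_le_left : V ⊓ Z.compl ≤ V)
  have e : V.ι ''ᵁ (j ''ᵁ (j ⁻¹ᵁ ⊤)) = V ⊓ Z.compl := by
    rw [j.image_preimage_eq_opensRange_inf, Scheme.opensRange_homOfLE]
    ext x
    constructor
    · rintro ⟨z, ⟨hz, -⟩, rfl⟩
      exact hz
    · rintro hx
      exact ⟨⟨x, hx.1⟩, ⟨hx, trivial⟩, rfl⟩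
  have e0 : V.ι ''ᵁ ⊤ = V := V.ι_image_top
  exact (res_congr₂ e0 e _ inf_le_left).mp (bijective_top_of_bijective_map j (h V).1)

/-- Every invertible module on the source extends to an invertible module on the target. -/
def Ext (j : X ⟶ Y) [IsOpenImmersion j] : Prop :=
  ∀ L₀ : X.Modules, PicF.IsInvertible L₀ → ∃ L : Y.Modules, PicF.IsInvertible L ∧ Nonempty (L.restrict j ≅ L₀)

theorem invRestrictEquiv_of (j : X ⟶ Y) [IsOpenImmersion j] (hj : ResBij j) (he : Ext j) :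
    ParaF.InvRestrictEquiv j :=
  ⟨fun L L' _ hL' => bijective_map j hj L L' hL', he⟩

theorem pair_iff (Z : Closeds X) : ParaF.IsParafactorialPair X Z ↔
    ResBijOn Z.compl ∧ ∀ V : X.Opens, Ext (X.homOfLE (inf_le_left : V ⊓ Z.compl ≤ V)) :=
  ⟨fun h => ⟨resBijOn_of_pair h, fun V => (h V).2⟩,
    fun h V => invRestrictEquiv_of _ (resBij_homOfLE h.1 V) (h.2 V)⟩

theorem ext_iff_pushforward (j : X ⟶ Y) [IsOpenImmersion j] (hj : ResBij j) :
    Ext j ↔ ∀ L₀ : X.Modules, PicF.IsInvertible L₀ →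
      PicF.IsInvertible ((Scheme.Modules.pushforward j).obj L₀) := by
  constructor
  · intro h L₀ hL₀
    obtain ⟨L, hL, ⟨e⟩⟩ := h L₀ hL₀
    obtain ⟨e'⟩ := nonempty_iso_pushforward j hj hL e
    exact PicCl.isInvertible_of_iso e' hL
  · intro h L₀ hL₀
    exact ⟨_, h L₀ hL₀, ⟨restrictPushforwardIso j L₀⟩⟩

/-- Extension along an open immersion is invariant under isomorphisms of arrows. -/
theorem ext_of_iso {X' Y' : Scheme.{u}} (j : X ⟶ Y) [IsOpenImmersion j] (j' : X' ⟶ Y') [IsOpenImmersion j']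
    (a : X' ⟶ X) [IsIso a] (b : Y' ⟶ Y) [IsIso b] (hab : j' ≫ b = a ≫ j) (h : Ext j) : Ext j' := by
  intro L₀ hL₀
  let M := L₀.restrict (inv a)
  obtain ⟨L, hL, ⟨e⟩⟩ := h M (isInvertible_restrict (inv a) hL₀)
  refine ⟨L.restrict b, isInvertible_restrict b hL, ⟨?_⟩⟩
  exact ((Scheme.Modules.restrictFunctorComp j' b).app L).symm ≪≫
    (Scheme.Modules.restrictFunctorCongr hab).app L ≪≫
    (Scheme.Modules.restrictFunctorComp a j).app L ≪≫
    (Scheme.Modules.restrictFunctor a).mapIso e ≪≫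
    ((Scheme.Modules.restrictFunctorComp a (inv a)).app L₀).symm ≪≫
    (Scheme.Modules.restrictFunctorCongr (IsIso.hom_inv_id a)).app L₀ ≪≫
    Scheme.Modules.restrictFunctorId.app L₀

/-- A module which is locally invertible is invertible. -/
theorem isInvertible_of_local {M : Y.Modules}
    (h : ∀ y : Y, ∃ (V : Y.Opens), y ∈ V ∧ PicF.IsInvertible (M.restrict V.ι)) : PicF.IsInvertible M := by
  intro y
  obtain ⟨V, hy, hV⟩ := h y
  obtain ⟨U, hyU, ⟨i⟩⟩ := hV ⟨y, hy⟩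
  refine ⟨V.ι ''ᵁ U, ⟨⟨y, hy⟩, hyU, rfl⟩, ⟨?_⟩⟩
  let k : (V.ι ''ᵁ U : Scheme.{u}) ⟶ (U : Scheme.{u}) := (V.ι.isoImage U).inv
  have hk : k ≫ U.ι ≫ V.ι = (V.ι ''ᵁ U).ι := Scheme.Hom.isoImage_inv_ι V.ι U
  exact (Scheme.Modules.restrictFunctorCongr hk.symm).app M ≪≫
    (Scheme.Modules.restrictFunctorComp k (U.ι ≫ V.ι)).app M ≪≫
    (Scheme.Modules.restrictFunctor k).mapIso
      ((Scheme.Modules.restrictFunctorComp U.ι V.ι).app M ≪≫ i) ≪≫
    Scheme.Modules.restrictUnitIso k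

end Groth.Agent.ParaFLib
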