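import Groth.Agent.ParaFLib.Punctured
import Groth.Agent.SchPoints.Basic
import Groth.Agent.S2827

/-!
# Factoriality spreads across a parafactorial closed subset
-/

set_option backward.isDefEq.respectTransparency.types false
set_option linter.style.haveILetI false
set_option maxHeartbeats 600000

noncomputable section

universe u

open CategoryTheory AlgebraicGeometry TopologicalSpace Opposite OmegaSh

namespace Groth.Agent.ParaFLib.Factorial

open Groth.Agent.QCoh Groth.Agent.Omega.Stalks UFD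

variable {X : Scheme.{u}} (U : X.Opens) (hres : ResBijOn U)

include hres in
theorem isReduced (hU : ∀ x ∈ U, IsDomain (X.presheaf.stalk x)) : IsReduced X := by
  haveI : ∀ x : X, _root_.IsReduced (X.presheaf.stalk x) := fun x => by
    refine ⟨fun a ⟨n, hn⟩ => ?_⟩
    obtain ⟨W, hxW, s, rfl⟩ := X.presheaf.exists_germ_eq (x := x) a
    obtain ⟨W', hxW', i₁, i₂, h1⟩ := X.presheaf.germ_eq x hxW hxW (s ^ n) 0 (by rw [map_pow, hn, map_zero])
    rw [map_pow, map_zero] at h1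
    have h2 : X.presheaf.map i₁.op s = 0 := by
      apply (hres W').1
      rw [map_zero]
      refine TopCat.Presheaf.section_ext X.sheaf (W' ⊓ U) _ _ fun z hz => ?_
      haveI := hU z hz.2
      have h3 := congrArg (X.presheaf.germ W' z hz.1) h1
      rw [map_pow, map_zero] at h3
      refine Eq.trans ?_ (map_zero (X.sheaf.presheaf.germ (W' ⊓ U) z hz).hom).symm
      exact (X.presheaf.germ_res_apply (homOfLE inf_le_left) z hz _).trans (pow_eq_zero_iff'.mp h3).1
    rw [← X.presheaf.germ_res_apply i₁ x hxW' s, h2, map_zero]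
  exact isReduced_of_isReduced_stalk X

include hres in
theorem exists_mem_of_nonempty (W : X.Opens) (hW : (W : Set X).Nonempty) : ∃ z, z ∈ W ∧ z ∈ U := by
  by_contra h
  push Not at h
  obtain ⟨x, hx⟩ := hW
  have h1 : (1 : Γ(X, W)) = 0 := by
    apply (hres W).1
    refine TopCat.Presheaf.section_ext X.sheaf (W ⊓ U) _ _ fun z hz => absurd hz.2 (h z hz.1)
  have h2 := congrArg (X.presheaf.germ W x hx) h1
  rw [map_one, map_zero] at h2
  exact one_ne_zero h2

include hres in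
theorem isDomain_stalk [IsLocallyNoetherian X] (hU : ∀ x ∈ U, IsDomain (X.presheaf.stalk x)) (y : X) :
    IsDomain (X.presheaf.stalk y) := by
  classical
  haveI := isReduced U hres hU
  have hN : ∀ x : X, ∃ N ∈ nhds x, NoetherianSpace N := SchPoints.exists_noetherian_nhd
  have huniq : ∀ u ∈ U, ∀ Z ∈ irreducibleComponents (X : Type u), ∀ Z' ∈ irreducibleComponents (X : Type u),
      u ∈ Z → u ∈ Z' → Z = Z' := fun u hu => by
    refine (SchPoints.isPrime_nilradical_stalk_iff u).mp ?_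
    haveI := hU u hu
    rw [nilradical_eq_zero, Ideal.zero_eq_bot]
    exact Ideal.bot_prime
  suffices h : ∀ Z ∈ irreducibleComponents (X : Type u), ∀ Z' ∈ irreducibleComponents (X : Type u),
      y ∈ Z → y ∈ Z' → Z = Z' by
    have h' := (SchPoints.isPrime_nilradical_stalk_iff y).mpr h
    rw [nilradical_eq_zero, Ideal.zero_eq_bot] at h'
    exact IsDomain.of_bot_isPrime _
  intro Z hZ Z' hZ' hyZ hyZ'
  by_contra hne
  let S : Set (Set X) := {T ∈ irreducibleComponents (X : Type u) | T ≠ Z}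
  let O : Bool → X.Opens := fun b => if b then U ⊓ ⟨(⋃₀ S)ᶜ, (SchPoints.isClosed_sUnion_components hN (fun T hT => hT.1)).isOpen_compl⟩
    else U ⊓ ⟨Zᶜ, (isClosed_of_mem_irreducibleComponents Z hZ).isOpen_compl⟩
  have hO : ∀ b, O b ≤ U := fun b => by cases b <;> simp [O]
  have hcov : U ≤ iSup O := fun u hu => by
    refine Opens.mem_iSup.mpr ?_
    by_cases huZ : u ∈ Z
    · exact ⟨true, hu, fun ⟨T, hT, huT⟩ => hT.2 (huniq u hu T hT.1 Z hZ huT huZ)⟩
    · exact ⟨false, hu, huZ⟩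
  have hdisj : ∀ u, u ∈ O true → u ∈ O false → False := fun u ⟨_, h1⟩ ⟨_, h2⟩ =>
    h1 ⟨irreducibleComponent u, ⟨irreducibleComponent_mem_irreducibleComponents u,
      fun e => h2 (e ▸ mem_irreducibleComponent)⟩, mem_irreducibleComponent⟩
  obtain ⟨e, he, -⟩ := TopCat.Sheaf.existsUnique_gluing' X.sheaf O U (fun b => homOfLE (hO b)) hcov
    (fun b => if b then 1 else 0) (fun a b => by
      refine TopCat.Presheaf.section_ext X.sheaf _ _ _ fun z hz => ?_
      cases a <;> cases b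
      · rfl
      · exact (hdisj z hz.2 hz.1).elim
      · exact (hdisj z hz.1 hz.2).elim
      · rfl)
  have htop := hres ⊤
  obtain ⟨e', he'⟩ := htop.2 (rres (inf_le_right : (⊤ : X.Opens) ⊓ U ≤ U) e)
  have hgerm : ∀ (b : Bool) (z : X) (hz : z ∈ O b), X.presheaf.germ ⊤ z trivial e' = if b then 1 else 0 := by
    intro b z hz
    have h1 : X.presheaf.germ ⊤ z trivial e' = X.presheaf.germ U z (hO b hz) e := by
      rw [← X.presheaf.germ_res_apply (homOfLE (inf_le_left : (⊤ : X.Opens) ⊓ U ≤ ⊤)) z ⟨trivial, hO b hz⟩ e', he']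
      exact X.presheaf.germ_res_apply (homOfLE (inf_le_right : (⊤ : X.Opens) ⊓ U ≤ U)) z ⟨trivial, hO b hz⟩ e
    rw [h1, ← X.presheaf.germ_res_apply (homOfLE (hO b)) z hz e]
    refine (congrArg (X.presheaf.germ (O b) z hz) (he b)).trans ?_
    cases b
    · exact map_zero (X.presheaf.germ (O false) z hz).hom
    · exact map_one (X.presheaf.germ (O true) z hz).hom
  -- generic points of components lie in `U`
  have hgen : ∀ (T : Set X) (hT : T ∈ irreducibleComponents (X : Type u)), ∃ η ∈ U,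
      IsGenericPoint η T := by
    intro T hT
    have hη := hT.1.isGenericPoint_genericPoint (isClosed_of_mem_irreducibleComponents T hT)
    let W : X.Opens := ⟨(⋃₀ {T' ∈ irreducibleComponents (X : Type u) | T' ≠ T})ᶜ,
      (SchPoints.isClosed_sUnion_components hN (fun T' hT' => hT'.1)).isOpen_compl⟩
    obtain ⟨u, huW, huU⟩ := exists_mem_of_nonempty U hres W ⟨hT.1.genericPoint, fun ⟨T', ⟨hT', hne'⟩, hmem⟩ =>
      hne' (le_antisymm (hT.2 hT'.1 ((hη.mem_closed_set_iff (isClosed_of_mem_irreducibleComponents T' hT')).mp hmem))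
        ((hη.mem_closed_set_iff (isClosed_of_mem_irreducibleComponents T' hT')).mp hmem))⟩
    have huT : u ∈ T := by
      by_contra huT
      exact huW ⟨irreducibleComponent u, ⟨irreducibleComponent_mem_irreducibleComponents u,
        fun e => huT (e ▸ mem_irreducibleComponent)⟩, mem_irreducibleComponent⟩
    exact ⟨hT.1.genericPoint, (hη.specializes huT).mem_open U.2 huU, hη⟩
  obtain ⟨η, hηU, hη⟩ := hgen Z hZ
  obtain ⟨η', hη'U, hη'⟩ := hgen Z' hZ'
  have hη1 : η ∈ O true := ⟨hηU, fun ⟨T, hT, hmem⟩ => hT.2 (huniq η hηU T hT.1 Z hZ hmem hη.mem)⟩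
  have hη0 : η' ∈ O false := ⟨hη'U, fun hmem => hne ((huniq η' hη'U Z' hZ' Z hZ hη'.mem hmem).symm)⟩
  rcases IsLocalRing.isUnit_or_isUnit_one_sub_self (X.presheaf.germ ⊤ y trivial e') with hu | hu
  · have h1 : y ∈ X.basicOpen e' := (X.mem_basicOpen_top e' y).mpr hu
    have h2 : η' ∈ X.basicOpen e' := (hη'.mem_open_set_iff (X.basicOpen e').2).mpr ⟨y, hyZ', h1⟩
    have h3 := (X.mem_basicOpen_top e' η').mp h2
    rw [hgerm false η' hη0] at h3
    simp at h3
  · rw [← map_one (X.presheaf.germ ⊤ y trivial).hom, ← map_sub] at hu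
    have h1 : y ∈ X.basicOpen (1 - e') := (X.mem_basicOpen_top _ y).mpr hu
    have h2 : η ∈ X.basicOpen (1 - e') := (hη.mem_open_set_iff (X.basicOpen (1 - e')).2).mpr ⟨y, hyZ, h1⟩
    have h3 := (X.mem_basicOpen_top _ η).mp h2
    rw [map_sub, map_one, hgerm true η hη1] at h3
    simp at h3

variable [IsAffine X] [IsIntegral X] [IsNoetherianRing Γ(X, ⊤)]

include hres in
theorem mem_of_height_le_one (p : Ideal Γ(X, ⊤)) [p.IsPrime] (hp : p.height = 1) :
    (isAffineOpen_top X).fromSpec ⟨p, inferInstance⟩ ∈ U := by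
  classical
  by_contra hy
  let hA := isAffineOpen_top X
  let pt : PrimeSpectrum Γ(X, ⊤) → X := fun q => hA.fromSpec q
  have hmem : ∀ (q : PrimeSpectrum Γ(X, ⊤)) (g : Γ(X, ⊤)), pt q ∈ X.basicOpen g ↔ g ∉ q.asIdeal := fun q g => by
    have h2 : q ∈ hA.fromSpec ⁻¹ᵁ X.basicOpen g ↔ pt q ∈ X.basicOpen g := Iff.rfl
    rw [hA.fromSpec_preimage_basicOpen] at h2
    exact h2.symm
  obtain ⟨b, hbp, hb0⟩ := Submodule.exists_mem_ne_zero_of_ne_bot (p.ne_bot_of_height_eq_one hp)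
  have hmin : p ∈ (Ideal.span {b}).minimalPrimes := by
    refine ⟨⟨inferInstance, (Ideal.span_singleton_le_iff_mem _).mpr hbp⟩, fun q ⟨hq, hbq⟩ hqp => ?_⟩
    by_contra hne
    haveI := hq
    have hlt := Ideal.height_strict_mono_of_isPrime (lt_of_le_of_ne hqp fun e => hne e.ge)
    rw [hp, Order.lt_one_iff_nonpos, nonpos_iff_eq_zero, Ideal.height_eq_zero_iff] at hlt
    have := le_antisymm (hlt.2 ⟨Ideal.bot_prime, le_rfl⟩ bot_le) bot_le
    exact hb0 (by simpa [this] using hbq (Ideal.subset_span rfl))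
  obtain ⟨g, hgp, hg⟩ : ∃ g, g ∉ p ∧ ∀ q ∈ (Ideal.span {b}).minimalPrimes, q ≠ p → g ∈ q := by
    let F := ((Ideal.span {b}).finite_minimalPrimes_of_isNoetherianRing).toFinset.erase p
    have hx : ∀ q ∈ F, ∃ x ∈ q, x ∉ p := fun q hq => by
      obtain ⟨hne, hq'⟩ := Finset.mem_erase.mp hq
      refine SetLike.not_le_iff_exists.mp fun hle => hne ?_
      have hq'' := (Set.Finite.mem_toFinset _).mp hq'
      exact le_antisymm hle (hmin.2 hq''.1 hle)
    choose x hxq hxp using hx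
    refine ⟨∏ q ∈ F.attach, x q.1 q.2, fun h => ?_, fun q hq hne => ?_⟩
    · obtain ⟨q, -, hq⟩ := Ideal.IsPrime.prod_mem_iff.mp h
      exact hxp _ _ hq
    · exact Ideal.mem_of_dvd q (Finset.dvd_prod_of_mem _ (Finset.mem_attach F
        ⟨q, Finset.mem_erase.mpr ⟨hne, (Set.Finite.mem_toFinset _).mpr hq⟩⟩)) (hxq q _)
  let W := X.basicOpen g
  have hle : W ⊓ U ≤ X.basicOpen b := by
    rintro x ⟨hxg, hxU⟩
    obtain ⟨q, rfl⟩ : x ∈ Set.range hA.fromSpec := hA.range_fromSpec.ge trivial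
    refine (hmem q b).mpr fun hbq => hy ?_
    obtain ⟨r, hr, hrq⟩ := Ideal.exists_minimalPrimes_le ((Ideal.span_singleton_le_iff_mem _).mpr hbq)
    have hrp : r = p := by
      by_contra hne
      exact (hmem q g).mp hxg (hrq (hg r hr hne))
    have hsp : (⟨p, inferInstance⟩ : PrimeSpectrum Γ(X, ⊤)) ⤳ q :=
      (PrimeSpectrum.le_iff_specializes _ _).mp (hrp ▸ hrq)
    exact (hsp.map hA.fromSpec.continuous).mem_open U.2 hxU
  obtain ⟨c, hc⟩ := (hres W).2 ↑((isUnit_α hle).unit⁻¹)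
  have h1 : c * α W b = 1 := by
    apply (hres W).1
    rw [map_mul, map_one, hc, rres_rres]
    exact IsUnit.val_inv_mul _
  have hyW : pt ⟨p, inferInstance⟩ ∈ W := (hmem _ g).mpr hgp
  have h2 : IsUnit (X.presheaf.germ ⊤ (pt ⟨p, inferInstance⟩) trivial b) := by
    rw [← X.presheaf.germ_res_apply (homOfLE (le_top : W ≤ ⊤)) _ hyW b]
    exact (IsUnit.of_mul_eq_one_right _ h1).map (X.presheaf.germ W _ hyW).hom
  exact (hmem _ b).mp ((X.mem_basicOpen_top b _).mpr h2) hbp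

omit [IsAffine X] [IsIntegral X] [IsNoetherianRing Γ(X, ⊤)] in
/-- A module which is locally trivial on an open restricts to an invertible module there. -/
theorem isInvertible_restrict (M : X.Modules)
    (h : ∀ x ∈ U, ∃ D : X.Opens, x ∈ D ∧ Nonempty (M.restrict D.ι ≅ Coh.structureModule (D : Scheme.{u}))) :
    PicF.IsInvertible (M.restrict U.ι) := fun z => by
  obtain ⟨D, hzD, ⟨i⟩⟩ := h (U.ι z) z.2
  refine ⟨U.ι ⁻¹ᵁ D, hzD, ⟨?_⟩⟩
  exact ((Scheme.Modules.restrictFunctorComp (U.ι ⁻¹ᵁ D).ι U.ι).app M).symm ≪≫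
    (Scheme.Modules.restrictFunctorCongr (morphismRestrict_ι U.ι D).symm).app M ≪≫
    (Scheme.Modules.restrictFunctorComp (U.ι ∣_ D) D.ι).app M ≪≫
    (Scheme.Modules.restrictFunctor (U.ι ∣_ D)).mapIso i ≪≫ Scheme.Modules.restrictUnitIso _

omit [IsAffine X] [IsIntegral X] [IsNoetherianRing Γ(X, ⊤)] in
theorem restrict_le_iso (M : X.Modules) {V V' : X.Opens} (h : V ≤ V') :
    Nonempty (M.restrict V.ι ≅ (M.restrict V'.ι).restrict (X.homOfLE h)) :=
  ⟨(Scheme.Modules.restrictFunctorCongr (X.homOfLE_ι h).symm).app M ≪≫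
    (Scheme.Modules.restrictFunctorComp (X.homOfLE h) V'.ι).app M⟩

omit [IsAffine X] [IsIntegral X] [IsNoetherianRing Γ(X, ⊤)] in
/-- An iso over `U` and a trivialisation over `W₀ ⊇ W` give one over `W ⊓ U`. -/
theorem trivIso (M L : X.Modules) (eL : L.restrict U.ι ≅ M.restrict U.ι) {W W₀ : X.Opens} (hg : W ≤ W₀)
    (iL : L.restrict W₀.ι ≅ Coh.structureModule (W₀ : Scheme.{u})) :
    Nonempty (M.restrict (W ⊓ U).ι ≅ Coh.structureModule ((W ⊓ U : X.Opens) : Scheme.{u})) := by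
  obtain ⟨a⟩ := restrict_le_iso M (inf_le_right : W ⊓ U ≤ U)
  obtain ⟨b⟩ := restrict_le_iso L (inf_le_right : W ⊓ U ≤ U)
  obtain ⟨c⟩ := restrict_le_iso L (inf_le_left.trans hg : W ⊓ U ≤ W₀)
  exact ⟨a ≪≫ (Scheme.Modules.restrictFunctor _).mapIso eL.symm ≪≫ b.symm ≪≫ c ≪≫
    (Scheme.Modules.restrictFunctor _).mapIso iL ≪≫ Scheme.Modules.restrictUnitIso _⟩

variable (p : Ideal Γ(X, ⊤))

omit [IsIntegral X] [IsNoetherianRing Γ(X, ⊤)] in
theorem ideal_eq (T : X.affineOpens) :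
    (Scheme.IdealSheafData.ofIdealTop p).ideal T = p.map (rres (le_top : T.1 ≤ ⊤)).hom := by
  simp

/-- The ideal sheaf of a prime of height one is trivial near a factorial point. -/
theorem exists_triv [p.IsPrime] (hp : p.height = 1) (x : X) (hx : UniqueFactorizationMonoid (X.presheaf.stalk x)) :
    ∃ D : X.Opens, x ∈ D ∧ Nonempty ((ClSub.idealMod (Scheme.IdealSheafData.ofIdealTop p)).restrict D.ι ≅
      Coh.structureModule (D : Scheme.{u})) := by
  obtain ⟨π, hπp, hπ0, h, hxh, hdvd⟩ := Punctured.exists_equation p hp x hx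
  let T : X.affineOpens := ⟨X.basicOpen h, (isAffineOpen_top X).basicOpen h⟩
  have hne : T.1 ≠ ⊥ := fun hb => (hb ▸ hxh : x ∈ (⊥ : X.Opens))
  haveI : Nonempty (T.1 : Scheme.{u}) := nonempty_of_ne_bot hne
  have he : (Scheme.IdealSheafData.ofIdealTop p).ideal T = Ideal.span {α T.1 π} := by
    rw [ideal_eq]
    refine le_antisymm (Ideal.map_le_iff_le_comap.mpr fun a ha => ?_) ?_
    · rw [Ideal.mem_comap, Ideal.mem_span_singleton]
      refine ((isUnit_α (le_refl T.1)).dvd_mul_right).mp ?_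
      exact (map_mul (rres (le_top : T.1 ≤ ⊤)).hom a h) ▸ map_dvd (rres (le_top : T.1 ≤ ⊤)).hom (hdvd a ha)
    · exact (Ideal.span_singleton_le_iff_mem _).mpr (Ideal.mem_map_of_mem _ hπp)
  have hf : α T.1 π ∈ nonZeroDivisors Γ(X, T.1) :=
    mem_nonZeroDivisors_of_ne_zero ((map_ne_zero_iff _ (rres_injective _ hne)).mpr hπ0)
  obtain ⟨e, hframe, -⟩ := IdealSh.IdealMod.exists_isFrame_of_equation (Scheme.IdealSheafData.ofIdealTop p) hf he
  exact ⟨T.1, hxh, hframe.nonempty_restrict_iso⟩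

omit [IsNoetherianRing Γ(X, ⊤)] in
/-- A numerator of a section of the ideal sheaf lies in the prime. -/
theorem num_mem [p.IsPrime] {W V : X.Opens} (hV : V ≤ W)
    (hζ : (isAffineOpen_top X).fromSpec ⟨p, inferInstance⟩ ∈ V)
    (m : Γ(ClSub.idealMod (Scheme.IdealSheafData.ofIdealTop p), V)) (t : Γ(X, W)) (a g : Γ(X, ⊤)) (n : ℕ)
    (ht : rres hV t = idealSect (Scheme.IdealSheafData.ofIdealTop p) V m)
    (hn : t * α W g ^ n = α W a) : a ∈ p := by
  let ζ : X := (isAffineOpen_top X).fromSpec ⟨p, inferInstance⟩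
  have hmem : ∀ h : Γ(X, ⊤), ζ ∈ X.basicOpen h ↔ h ∉ p := fun h => by
    have h2 : (⟨p, inferInstance⟩ : PrimeSpectrum Γ(X, ⊤)) ∈ (isAffineOpen_top X).fromSpec ⁻¹ᵁ X.basicOpen h ↔
        ζ ∈ X.basicOpen h := Iff.rfl
    rw [(isAffineOpen_top X).fromSpec_preimage_basicOpen] at h2
    exact h2.symm
  obtain ⟨h, hh, hζh⟩ := (isAffineOpen_top X).exists_basicOpen_le (V := V) ⟨ζ, hζ⟩ trivial
  let T : X.affineOpens := ⟨X.basicOpen h, (isAffineOpen_top X).basicOpen h⟩
  have h1 := IdealSh.IdealMod.sect_mem (Scheme.IdealSheafData.ofIdealTop p) T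
    ((ClSub.idealMod (Scheme.IdealSheafData.ofIdealTop p)).presheaf.map (homOfLE hh).op m)
  rw [idealSect_map, ← ht, ideal_eq] at h1
  rw [show X.presheaf.map (homOfLE hh).op (rres hV t) = rres (hh.trans hV) t from rres_rres _ _ t] at h1
  have h2 : rres (le_top : T.1 ≤ ⊤) a ∈ p.map (rres (le_top : T.1 ≤ ⊤)).hom := by
    have h3 := congrArg (rres (hh.trans hV : T.1 ≤ W)) hn
    simp only [α, map_mul, map_pow, rres_rres] at h3
    rw [← h3]
    exact Ideal.mul_mem_right _ _ h1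
  letI := (X.presheaf.map (homOfLE (X.basicOpen_le h)).op).hom.toAlgebra
  haveI := (isAffineOpen_top X).isLocalization_basicOpen h
  obtain ⟨⟨c, ⟨_, k, rfl⟩⟩, hk⟩ := (IsLocalization.mem_map_algebraMap_iff (Submonoid.powers h) Γ(X, T.1)).mp h2
  have h3 : a * h ^ k = c := by
    apply rres_injective (le_top : T.1 ≤ ⊤) (fun hb => by
      have : ζ ∈ (⊥ : X.Opens) := hb ▸ hζh
      exact this)
    rw [map_mul]
    exact hk
  refine ((inferInstance : p.IsPrime).mem_or_mem (h3 ▸ c.2)).resolve_right fun h4 => ?_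
  exact (hmem h).mp hζh ((inferInstance : p.IsPrime).mem_of_pow_mem k h4)

omit [IsIntegral X] [IsNoetherianRing Γ(X, ⊤)] in
/-- The elements of the prime vanish on the closed subscheme it defines. -/
theorem subschemeι_app_eq_zero (V : X.Opens) {z : Γ(X, ⊤)} (hz : z ∈ p) :
    (Scheme.IdealSheafData.ofIdealTop p).subschemeι.app V (rres (le_top : V ≤ ⊤) z) = 0 := by
  have h1 : (Scheme.IdealSheafData.ofIdealTop p).subschemeι.app ⊤ z = 0 := by
    refine (IdealSh.IdealMod.mem_ideal_iff _ ⟨⊤, isAffineOpen_top X⟩ z).mp ?_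
    rw [ideal_eq]
    have h2 := Ideal.mem_map_of_mem (rres (le_top : (⊤ : X.Opens) ≤ ⊤)).hom hz
    rwa [show (rres (le_top : (⊤ : X.Opens) ≤ ⊤)).hom z = z from rres_self _ z] at h2
  rw [rres, ← ConcreteCategory.comp_apply, Scheme.Hom.naturality, ConcreteCategory.comp_apply, h1, map_zero]

include hres in
theorem exists_gen [p.IsPrime] (hE : Ext U.ι) (hp : p.height = 1)
    (hU : ∀ x ∈ U, UniqueFactorizationMonoid (X.presheaf.stalk x)) (y : X) :
    ∃ (g : Γ(X, ⊤)) (_ : y ∈ X.basicOpen g) (t : Γ(X, X.basicOpen g)),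
      (∀ z ∈ p, ∃ b, b * t = α (X.basicOpen g) z) ∧
      ((isAffineOpen_top X).fromSpec ⟨p, inferInstance⟩ ∈ X.basicOpen g →
        ∀ a n, t * α (X.basicOpen g) g ^ n = α (X.basicOpen g) a → a ∈ p) := by
  classical
  let 𝓘 := Scheme.IdealSheafData.ofIdealTop p
  let M := ClSub.idealMod 𝓘
  obtain ⟨L, hL, ⟨eL⟩⟩ := hE _ (isInvertible_restrict U M fun x hx => exists_triv p hp x (hU x hx))
  obtain ⟨W₀, hyW₀, ⟨iL⟩⟩ := hL y
  obtain ⟨g, hg, hyg⟩ := (isAffineOpen_top X).exists_basicOpen_le (V := W₀) ⟨y, hyW₀⟩ trivial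
  let W := X.basicOpen g
  obtain ⟨φ⟩ := trivIso U M L eL hg iL
  obtain ⟨e, he⟩ := LFFrame.exists_isFrame_of_split (M := M) (fun _ : Fin 1 => φ.inv) (fun _ => φ.hom)
    (fun a b => by simp [Subsingleton.elim a b]) (by simp)
  obtain ⟨t, ht⟩ := (hres W).2 (idealSect 𝓘 (W ⊓ U) (e 0))
  refine ⟨g, hyg, t, fun z hz => ?_, fun hζ a n hn => num_mem p (inf_le_left : W ⊓ U ≤ W)
    ⟨hζ, mem_of_height_le_one U hres p hp⟩ (e 0) t a g n ht hn⟩
  obtain ⟨m, hm⟩ := IdealSh.IdealMod.exists_sect 𝓘 _ _ (subschemeι_app_eq_zero p (W ⊓ U) hz)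
  obtain ⟨c, rfl⟩ := (he (W ⊓ U) le_rfl).2 m
  obtain ⟨b, hb⟩ := (hres W).2 (c 0)
  refine ⟨b, ?_⟩
  apply (hres W).1
  rw [map_mul, hb, rres_rres, ← hm, ht, LFFrame.comb, Fin.sum_univ_one, idealSect_smul, idealSect_map]
  congr 1
  exact (rres_self _ _).symm

include hres in
theorem ufd_stalk (hE : Ext U.ι) (hU : ∀ x ∈ U, UniqueFactorizationMonoid (X.presheaf.stalk x)) (y : X) :
    UniqueFactorizationMonoid (X.presheaf.stalk y) := by
  classical
  haveI : IsLocallyNoetherian X := isLocallyNoetherian_of_affine_cover (S := fun _ : Unit => ⟨⊤, isAffineOpen_top X⟩)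
    (by simp) (fun _ => inferInstance)
  refine UniqueFactorizationMonoid.of_forall_isPrincipal_of_height_eq_one fun p₀ _ hp₀ => ?_
  letI : Algebra Γ(X, ⊤) (X.presheaf.stalk y) :=
    TopCat.Presheaf.algebra_section_stalk X.presheaf (⟨y, trivial⟩ : (⊤ : X.Opens))
  let P := ((isAffineOpen_top X).primeIdealOf ⟨y, trivial⟩).asIdeal
  haveI : IsLocalization.AtPrime (X.presheaf.stalk y) P := (isAffineOpen_top X).isLocalization_stalk ⟨y, trivial⟩
  let p := p₀.comap (algebraMap Γ(X, ⊤) (X.presheaf.stalk y))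
  have hpP : p ≤ P := fun a ha => by
    by_contra haP
    exact (inferInstance : p₀.IsPrime).ne_top (Ideal.eq_top_of_isUnit_mem _ ha
      ((IsLocalization.AtPrime.isUnit_to_map_iff (X.presheaf.stalk y) P a).mpr haP))
  have hp : p.height = 1 := (IsLocalization.height_under P.primeCompl p₀).trans hp₀
  obtain ⟨g, hyg, t, hgen, hnum⟩ := exists_gen U hres p hE hp hU y
  have hgP : g ∉ P := by
    have := (X.mem_basicOpen_top g y).mp hyg
    exact (IsLocalization.AtPrime.isUnit_to_map_iff (X.presheaf.stalk y) P g).mp this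
  have hζ : (isAffineOpen_top X).fromSpec ⟨p, inferInstance⟩ ∈ X.basicOpen g := by
    have h2 : (⟨p, inferInstance⟩ : PrimeSpectrum Γ(X, ⊤)) ∈ (isAffineOpen_top X).fromSpec ⁻¹ᵁ X.basicOpen g := by
      rw [(isAffineOpen_top X).fromSpec_preimage_basicOpen]
      exact fun h => hgP (hpP h)
    exact h2
  letI := (X.presheaf.map (homOfLE (X.basicOpen_le g)).op).hom.toAlgebra
  haveI := (isAffineOpen_top X).isLocalization_basicOpen g
  obtain ⟨a, n, hn⟩ := exists_num g t
  have hap : a ∈ p := hnum hζ a n hn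
  have hgerm : ∀ z : Γ(X, ⊤), X.presheaf.germ (X.basicOpen g) y hyg (α (X.basicOpen g) z) =
      algebraMap Γ(X, ⊤) (X.presheaf.stalk y) z :=
    fun z => X.presheaf.germ_res_apply (homOfLE le_top) y hyg z
  have htgerm : X.presheaf.germ (X.basicOpen g) y hyg t ∈ p₀ := by
    have h1 := congrArg (X.presheaf.germ (X.basicOpen g) y hyg) hn
    rw [map_mul, map_pow, hgerm, hgerm] at h1
    have h2 : algebraMap Γ(X, ⊤) (X.presheaf.stalk y) a ∈ p₀ := hap
    rw [← h1] at h2
    refine ((inferInstance : p₀.IsPrime).mem_or_mem h2).resolve_right fun h4 => ?_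
    exact hgP (hpP ((inferInstance : p₀.IsPrime).mem_of_pow_mem n h4))
  refine ⟨X.presheaf.germ (X.basicOpen g) y hyg t,
    le_antisymm ?_ ((Ideal.span_singleton_le_iff_mem _).mpr htgerm)⟩
  rw [← IsLocalization.map_under P.primeCompl (X.presheaf.stalk y) p₀, Ideal.map_le_iff_le_comap]
  intro z hz
  obtain ⟨b, h5⟩ := hgen z hz
  refine Ideal.mem_span_singleton'.mpr ⟨X.presheaf.germ (X.basicOpen g) y hyg b, ?_⟩
  rw [← map_mul, h5, hgerm]

end Groth.Agent.ParaFLib.Factorial
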