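import Groth.Agent.ParaFLib.Spread
import Groth.Agent.ParaFLib.Factorial
import Groth.Agent.S2829

/-!
# Parafactorial pairs and parafactorial local rings
-/

set_option backward.isDefEq.respectTransparency.types false
set_option maxHeartbeats 400000

noncomputable section

universe u

open CategoryTheory AlgebraicGeometry TopologicalSpace Opposite

namespace Groth.Agent.ParaFLib.StalkPair

open Groth.Agent.QCoh Groth.Agent.Props.GenLocus OpenData StalkLim Spread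

variable {X : Scheme.{u}}

/-- A point of `V` outside `G` whose proper generisations lie in `G`. -/
theorem exists_maximal (V G : X.Opens) (h : ¬ V ≤ G) :
    ∃ y, y ∈ V ∧ y ∉ G ∧ ∀ z, z ⤳ y → z ≠ y → z ∈ G := by
  obtain ⟨x, hxV, hxG⟩ := SetLike.not_le_iff_exists.mp h
  let T : Set (V : Scheme.{u}) := {z | V.ι z ∉ G}
  have hT : IsClosed T := (V.ι ⁻¹ᵁ G).2.isClosed_compl
  have : QuasiSober T := hT.isClosedEmbedding_subtypeVal.quasiSober
  let x' : T := ⟨⟨x, hxV⟩, hxG⟩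
  let η : T := (isIrreducible_irreducibleComponent (x := x')).genericPoint
  have hη : IsGenericPoint η (irreducibleComponent x') :=
    (isIrreducible_irreducibleComponent (x := x')).isGenericPoint_genericPoint isClosed_irreducibleComponent
  refine ⟨V.ι η.1, η.1.2, η.2, fun z hz hne => ?_⟩
  by_contra hzG
  have hzV : z ∈ V := hz.mem_open V.2 η.1.2
  let z' : T := ⟨⟨z, hzV⟩, hzG⟩
  have hzη : z' ⤳ η := (subtype_specializes_iff _ _).mpr (V.ι.isOpenEmbedding.isInducing.specializes_iff.mp hz)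
  have hcomp : closure ({η} : Set T) ⊆ closure {z'} := hzη.closure_subset
  have heq : closure ({z'} : Set T) = irreducibleComponent x' :=
    (irreducibleComponent_mem_irreducibleComponents x').2 isIrreducible_singleton.closure (hη.def ▸ hcomp)
      |>.antisymm (hη.def ▸ hcomp)
  have hηz : η ⤳ z' := specializes_iff_mem_closure.mpr (by rw [hη.def, ← heq]; exact subset_closure rfl)
  exact hne (congrArg (fun t : T => V.ι t.1) (hzη.antisymm hηz).eq)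

theorem bijective_res_preimage {Q : Scheme.{u}} (L : Q.Modules) {A B : Q.Opens} (h : B ≤ A) (e : A ≤ B) :
    Function.Bijective (res L h) := by
  obtain rfl : A = B := le_antisymm e h
  exact ⟨fun a b hab => by rwa [res_self, res_self] at hab, fun a => ⟨a, res_self L _ a⟩⟩

variable (y : X)

theorem preimage_eq_punctured {V : X.Opens} (hy : y ∉ V) (hV : ∀ z, z ⤳ y → z ≠ y → z ∈ V) :
    f y ⁻¹ᵁ V = FEt.puncturedSpec (X.presheaf.stalk y) := by
  refine le_antisymm (fun q hq he => hy ?_) fun q hq => ?_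
  · have := (show f y q ∈ V from hq)
    rwa [show q = IsLocalRing.closedPoint _ from he, f_closedPoint] at this
  · refine hV _ ((mem_range y).mp ⟨q, rfl⟩) fun he => hq ?_
    exact (f y).isEmbedding.injective (he.trans (f_closedPoint y).symm)

theorem bijective_res_punctured (h : ParaF.IsParafactorialLocalRing (X.presheaf.stalk y))
    {A B : (Spec (X.presheaf.stalk y)).Opens} (hA : A = ⊤) (hB : B = FEt.puncturedSpec (X.presheaf.stalk y))
    (hBA : B ≤ A) : Function.Bijective ((Spec (X.presheaf.stalk y)).presheaf.map (homOfLE hBA).op) :=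
  (res_congr₂ hA hB hBA le_top).mpr ((parafactorial_iff (A := X.presheaf.stalk y)).mp h).1

theorem restrict_rel {U : X.Opens} (D : Data U) (N : X.Opens) {M : X.Modules} (e : ∀ i, Γ(M, D.O i))
    (hrel : ∀ i j, res M (inf_le_right : D.O i ⊓ D.O j ≤ _) (e j) = D.a i j • res M (inf_le_left : D.O i ⊓ D.O j ≤ _) (e i))
    (i j : D.ι) :
    res M (inf_le_right : (Spread.restrict D N).O i ⊓ (Spread.restrict D N).O j ≤ _)
        (res M (inf_le_left : D.O j ⊓ N ≤ D.O j) (e j)) =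
      (Spread.restrict D N).a i j •
        (res M (inf_le_left : (Spread.restrict D N).O i ⊓ (Spread.restrict D N).O j ≤ _)
          (res M (inf_le_left : D.O i ⊓ N ≤ D.O i) (e i)) :
          Γ(M, (Spread.restrict D N).O i ⊓ (Spread.restrict D N).O j)) := by
  have h1 := congrArg (res M (inf_le_inf inf_le_left inf_le_left :
    (D.O i ⊓ N) ⊓ (D.O j ⊓ N) ≤ D.O i ⊓ D.O j)) (hrel i j)
  rw [res_smul, res_res, res_res] at h1
  refine (res_res M _ _ _).trans (h1.trans ?_)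
  exact congrArg (fun t : Γ(M, (D.O i ⊓ N) ⊓ (D.O j ⊓ N)) => rres (inf_le_inf inf_le_left inf_le_left :
    (D.O i ⊓ N) ⊓ (D.O j ⊓ N) ≤ D.O i ⊓ D.O j) (D.a i j) • t) (res_res M _ _ _).symm

theorem push_rel {A B C D : X.Opens} (hA : C ≤ A) (hB : C ≤ B) (hD : C ≤ D) (a : Γ(X, A)) (b : Γ(X, B)) (d : Γ(X, D))
    (h : rres hA a = rres hB b * rres hD d) (V : (Spec (X.presheaf.stalk y)).Opens) (hV : V ≤ f y ⁻¹ᵁ C) :
    rres (hV.trans ((f y).preimage_mono hA)) ((f y).app A a) =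
      rres (hV.trans ((f y).preimage_mono hB)) ((f y).app B b) *
        rres (hV.trans ((f y).preimage_mono hD)) ((f y).app D d) := by
  have h1 := congrArg (rres hV) (congrArg ((f y).app C) h)
  rw [map_mul, map_mul, StalkLim.app_res, StalkLim.app_res, StalkLim.app_res, rres_rres, rres_rres, rres_rres] at h1
  exact h1

variable [IsLocallyNoetherian X] {U : X.Opens}

/-! ### From the local rings to the pair -/

section Backward

variable (hst : ∀ y ∉ U, ParaF.IsParafactorialLocalRing (X.presheaf.stalk y))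

include hst in
theorem injective_res (V : X.Opens) (s : Γ(X, V)) (hs : rres (inf_le_left : V ⊓ U ≤ V) s = 0) : s = 0 := by
  let G : X.Opens := ⨆ N : {N : X.Opens // ∃ h : N ≤ V, rres h s = 0}, N.1
  have hsG : ∀ (N : X.Opens) (hN : N ≤ G) (h : N ≤ V), rres h s = 0 := fun N hN h => by
    refine X.sheaf.eq_of_locally_eq' (fun M : {N : X.Opens // ∃ h : N ≤ V, rres h s = 0} => M.1 ⊓ N) N
      (fun M => homOfLE inf_le_right) (fun x hx => ?_) _ _ fun M => ?_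
    · obtain ⟨M, hM⟩ := Opens.mem_iSup.mp (hN hx)
      exact Opens.mem_iSup.mpr ⟨M, hM, hx⟩
    · obtain ⟨hMV, hM⟩ := M.2
      have h1 := congrArg (rres (inf_le_left : M.1 ⊓ N ≤ M.1)) hM
      rw [map_zero, rres_rres] at h1
      show rres inf_le_right _ = rres inf_le_right 0
      rw [map_zero, rres_rres]
      exact h1
  by_cases hVG : V ≤ G
  · exact (rres_self le_rfl s).symm.trans (hsG V hVG le_rfl)
  exfalso
  obtain ⟨y, hyV, hyG, hgen⟩ := exists_maximal V G hVG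
  have hyU : y ∉ U := fun hyU => hyG (Opens.mem_iSup.mpr ⟨⟨V ⊓ U, inf_le_left, hs⟩, hyV, hyU⟩)
  obtain ⟨W, hW, hyW, hWV⟩ := exists_isAffineOpen_mem_and_subset hyV
  have hP : f y ⁻¹ᵁ (G ⊓ W) = FEt.puncturedSpec (X.presheaf.stalk y) :=
    preimage_eq_punctured y (fun h => hyG h.1) fun z hz hne => ⟨hgen z hz hne, hz.mem_open W.2 hyW⟩
  have h0 : (f y).app W (rres hWV s) = 0 := by
    apply (bijective_res_punctured y (hst y hyU) (preimage_eq_top y hyW) hP ((f y).preimage_mono inf_le_right)).1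
    rw [map_zero]
    refine (StalkLim.app_res y (inf_le_right : G ⊓ W ≤ W) (rres hWV s)).symm.trans ?_
    rw [rres_rres, hsG _ inf_le_left, map_zero]
  obtain ⟨N, hN, hyN, hsN⟩ := exists_zero_of_app_eq_zero y hyW _ h0
  rw [rres_rres] at hsN
  exact hyG (Opens.mem_iSup.mpr ⟨⟨N, hN.trans hWV, hsN⟩, hyN⟩)

include hst in
theorem surjective_res (V : X.Opens) (b : Γ(X, V ⊓ U)) : ∃ a : Γ(X, V), rres inf_le_left a = b := by
  let S := {N : X.Opens // ∃ (h : N ≤ V) (a : Γ(X, N)),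
    rres (inf_le_left : N ⊓ U ≤ N) a = rres (inf_le_inf_right U h) b}
  choose hle a ha using fun N : S => N.2
  let G : X.Opens := ⨆ N : S, N.1
  obtain ⟨g, hg, -⟩ := X.sheaf.existsUnique_gluing' (fun N : S => N.1) G (fun N => homOfLE (le_iSup (fun N : S => N.1) N))
    le_rfl a fun M N => by
      show rres (inf_le_left : M.1 ⊓ N.1 ≤ _) (a M) = rres (inf_le_right : M.1 ⊓ N.1 ≤ _) (a N)
      rw [← sub_eq_zero]
      apply injective_res hst
      have h1 := congrArg (rres (show M.1 ⊓ N.1 ⊓ U ≤ M.1 ⊓ U from inf_le_inf_right U inf_le_left)) (ha M)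
      have h2 := congrArg (rres (show M.1 ⊓ N.1 ⊓ U ≤ N.1 ⊓ U from inf_le_inf_right U inf_le_right)) (ha N)
      rw [rres_rres, rres_rres] at h1 h2
      rw [map_sub, rres_rres, rres_rres, h1, h2, sub_self]
  have hGV : G ≤ V := iSup_le hle
  have hgU : rres (inf_le_left : G ⊓ U ≤ G) g = rres (inf_le_inf_right U hGV) b := by
    refine X.sheaf.eq_of_locally_eq' (fun N : S => N.1 ⊓ U) (G ⊓ U)
      (fun N => homOfLE (inf_le_inf_right U (le_iSup (fun N : S => N.1) N))) (fun x hx => ?_) _ _ fun N => ?_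
    · obtain ⟨M, hM⟩ := Opens.mem_iSup.mp hx.1
      exact Opens.mem_iSup.mpr ⟨M, hM, hx.2⟩
    · show rres _ _ = rres _ _
      rw [rres_rres, rres_rres, ← rres_rres (le_iSup (fun N : S => N.1) N) inf_le_left g,
        show rres (le_iSup (fun N : S => N.1) N) g = a N from hg N, ha]
  by_cases hVG : V ≤ G
  · refine ⟨rres hVG g, ?_⟩
    have h1 := congrArg (rres (inf_le_inf_right U hVG)) hgU
    rw [rres_rres, rres_rres, rres_self] at h1
    rw [rres_rres]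
    exact h1
  exfalso
  obtain ⟨y, hyV, hyG, hgen⟩ := exists_maximal V G hVG
  have hUG : V ⊓ U ≤ G := le_iSup (fun N : S => N.1) ⟨V ⊓ U, inf_le_left, b, by
    exact (congrArg (fun t => t) rfl)⟩
  have hyU : y ∉ U := fun hyU => hyG (hUG ⟨hyV, hyU⟩)
  obtain ⟨W, hW, hyW, hWV⟩ := exists_isAffineOpen_mem_and_subset hyV
  have hP : f y ⁻¹ᵁ (G ⊓ W) = FEt.puncturedSpec (X.presheaf.stalk y) :=
    preimage_eq_punctured y (fun h => hyG h.1) fun z hz hne => ⟨hgen z hz hne, hz.mem_open W.2 hyW⟩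
  obtain ⟨c, hc⟩ := (bijective_res_punctured y (hst y hyU) (rfl : (⊤ : (Spec (X.presheaf.stalk y)).Opens) = ⊤) hP
    le_top).2 ((f y).app (G ⊓ W) (rres inf_le_left g))
  obtain ⟨N, a₁, hyN, hNW, ha₁⟩ := exists_rep y W hyW c
  let O := (G ⊓ W) ⊓ N
  obtain ⟨N', hyN', -, hN'⟩ := eq_near y hW hyW ((inf_le_left.trans inf_le_right : O ≤ W))
    (rres (inf_le_right : O ≤ N) a₁) (rres (inf_le_left.trans inf_le_left : O ≤ G) g) (by
      have h1 := congrArg (rres ((f y).preimage_mono (inf_le_left : O ≤ G ⊓ W))) hc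
      rw [rres_rres] at h1
      rw [StalkLim.app_res, ha₁, rres_rres]
      refine h1.trans ?_
      rw [StalkLim.app_res, StalkLim.app_res, rres_rres])
  let N₃ := N ⊓ N'
  refine hyG (Opens.mem_iSup.mpr ⟨⟨N₃, inf_le_left.trans (hNW.trans hWV), rres inf_le_left a₁, ?_⟩, hyN, hyN'⟩)
  have hle : N₃ ⊓ U ≤ O ⊓ N' :=
    le_inf (le_inf (le_inf ((inf_le_inf_right U (inf_le_left.trans (hNW.trans hWV))).trans hUG)
      ((inf_le_left.trans inf_le_left).trans hNW)) (inf_le_left.trans inf_le_left)) (inf_le_left.trans inf_le_right)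
  have h1 := congrArg (rres hle) hN'
  rw [rres_rres, rres_rres, rres_rres, rres_rres] at h1
  have h2 := congrArg (rres (le_inf (hle.trans (inf_le_left.trans (inf_le_left.trans inf_le_left))) inf_le_right :
    N₃ ⊓ U ≤ G ⊓ U)) hgU
  rw [rres_rres, rres_rres] at h2
  rw [rres_rres]
  exact h1.trans h2

include hst in
theorem resBijOn_of_stalks : ResBijOn U := fun V =>
  ⟨fun s t h => sub_eq_zero.mp (injective_res hst V _ (by rw [map_sub]; exact sub_eq_zero.mpr h)),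
    surjective_res hst V⟩

include hst in
theorem ext_of_stalks (V : X.Opens) : Ext (X.homOfLE (inf_le_left : V ⊓ U ≤ V)) := by
  intro L₀ hL₀
  have hres := resBijOn_of_stalks hst
  let Q : X.Opens := V ⊓ U
  let M := (Scheme.Modules.pushforward Q.ι).obj L₀
  have hMQ : PicF.IsInvertible (M.restrict Q.ι) :=
    PicCl.isInvertible_of_iso (restrictPushforwardIso Q.ι L₀).symm hL₀
  let S := {N : X.Opens // N ≤ V ∧ ∃ σ : Γ(M, N), IsGen M N σ}
  let G : X.Opens := ⨆ N : S, N.1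
  have hQG : Q ≤ G := fun x hx => by
    obtain ⟨N, σ, hxN, hNQ, hσ⟩ := exists_isGen_of_invertible_restrict hMQ hx
    exact Opens.mem_iSup.mpr ⟨⟨N, hNQ.trans inf_le_left, σ, hσ⟩, hxN⟩
  have hVG : V ≤ G := by
    by_contra hVG
    obtain ⟨y, hyV, hyG, hgen⟩ := exists_maximal V G hVG
    have hyU : y ∉ U := fun hyU => hyG (hQG ⟨hyV, hyU⟩)
    obtain ⟨W, hW, hyW, hWV⟩ := exists_isAffineOpen_mem_and_subset hyV
    have hP : f y ⁻¹ᵁ (G ⊓ W) = FEt.puncturedSpec (X.presheaf.stalk y) :=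
      preimage_eq_punctured y (fun h => hyG h.1) fun z hz hne => ⟨hgen z hz hne, hz.mem_open W.2 hyW⟩
    obtain ⟨F, hF⟩ := (isCompact_of_le hW (inf_le_right : G ⊓ W ≤ W)).elim_finite_subcover
      (fun N : S => (N.1 : Set X)) (fun N => N.1.2) (fun x hx => by
        obtain ⟨N, hN⟩ := Opens.mem_iSup.mp hx.1
        exact Set.mem_iUnion.mpr ⟨N, hN⟩)
    let O : F → X.Opens := fun N => N.1.1 ⊓ W
    have hσ : ∀ N : F, ∃ σ : Γ(M, O N), IsGen M (O N) σ := fun N => by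
      obtain ⟨σ, hσ⟩ := N.1.2.2
      exact ⟨_, hσ.restrict inf_le_left⟩
    choose e he using hσ
    have hOle : ∀ N : F, O N ≤ G ⊓ W := fun N => inf_le_inf_right W (le_iSup (fun N : S => N.1) N.1)
    have hcov : G ⊓ W ≤ iSup O := fun x hx => by
      obtain ⟨N, hN, hxN⟩ := Set.mem_iUnion₂.mp (hF hx)
      exact Opens.mem_iSup.mpr ⟨⟨N, hN⟩, hxN, hx.2⟩
    let D := ofGens O hOle hcov e he
    have : Finite D.ι := inferInstanceAs (Finite F)
    obtain ⟨N, hyN, hNW, hN⟩ := exists_triv y hW hyW inf_le_right D hP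
      (triv_of_picTrivial ((parafactorial_iff (A := X.presheaf.stalk y)).mp (hst y hyU)).2 _)
    obtain ⟨σ, hσ⟩ := exists_isGen_of_triv (Spread.restrict D N) (fun i => res M inf_le_left (e i))
      (fun i => (he i).restrict inf_le_left) (restrict_rel D N (fun i => e i) (ofGens_rel O hOle hcov e he)) hN
    -- extend the generator from `G ⊓ N` to `N`
    have hQ : ∀ T : X.Opens, T ≤ N → Q.ι ⁻¹ᵁ T ≤ Q.ι ⁻¹ᵁ (T ⊓ ((G ⊓ W) ⊓ N)) := fun T hT x hx =>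
      ⟨hx, ⟨hQG x.2, hNW (hT hx)⟩, hT hx⟩
    have hbij : ∀ T : X.Opens, T ≤ N → Function.Bijective (res M (inf_le_left : T ⊓ ((G ⊓ W) ⊓ N) ≤ T)) :=
      fun T hT => bijective_res_preimage L₀ (Q.ι.preimage_mono inf_le_left) (hQ T hT)
    obtain ⟨τ, hτ⟩ := (hbij N le_rfl).2 (res M inf_le_right σ)
    refine hyG (Opens.mem_iSup.mpr ⟨⟨N, hNW.trans hWV, τ, fun T hT => ?_⟩, hyN⟩)
    have hbX : Function.Bijective (rres (inf_le_left : T ⊓ ((G ⊓ W) ⊓ N) ≤ T)) := by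
      have e' : T ⊓ ((G ⊓ W) ⊓ N) ⊓ U = T ⊓ U := le_antisymm (inf_le_inf_right U inf_le_left)
        (le_inf (le_inf inf_le_left (le_inf (le_inf ((inf_le_inf_right U (hT.trans (hNW.trans hWV))).trans hQG)
          (inf_le_left.trans (hT.trans hNW))) (inf_le_left.trans hT))) inf_le_right)
      have h1 := (res_congr₂ (rfl : T ⊓ ((G ⊓ W) ⊓ N) = _) e' inf_le_left
        ((le_of_eq e'.symm).trans inf_le_left)).mp (hres (T ⊓ ((G ⊓ W) ⊓ N)))
      refine (Function.Bijective.of_comp_iff' h1 _).mp ?_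
      convert hres T using 1
      funext a
      exact rres_rres _ _ a
    refine (Function.Bijective.of_comp_iff' (hbij T hT) _).mp ?_
    convert ((hσ (T ⊓ ((G ⊓ W) ⊓ N)) inf_le_right).comp hbX) using 1
    funext a
    show res M _ (a • res M hT τ) = rres _ a • res M _ σ
    rw [res_smul, res_res]
    have h1 := congrArg (res M (le_inf (inf_le_left.trans hT) inf_le_right :
      T ⊓ ((G ⊓ W) ⊓ N) ≤ N ⊓ ((G ⊓ W) ⊓ N))) hτ
    rw [res_res, res_res] at h1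
    rw [h1]
  refine ⟨M.restrict V.ι, ?_, ⟨?_⟩⟩
  · refine Factorial.isInvertible_restrict V M fun x hx => ?_
    obtain ⟨N, hxN⟩ := Opens.mem_iSup.mp (hVG hx)
    obtain ⟨σ, hσ⟩ := N.2.2
    exact ⟨N.1, hxN, nonempty_iso_of_isGen hσ⟩
  · exact ((Scheme.Modules.restrictFunctorComp (X.homOfLE (inf_le_left : Q ≤ V)) V.ι).app M).symm ≪≫
      (Scheme.Modules.restrictFunctorCongr (X.homOfLE_ι (inf_le_left : Q ≤ V))).app M ≪≫
      restrictPushforwardIso Q.ι L₀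

end Backward

/-! ### From the pair to a local ring -/

section Forward

variable (hres : ResBijOn U) (hext : ∀ V : X.Opens, Ext (X.homOfLE (inf_le_left : V ⊓ U ≤ V)))
  (hyU : y ∉ U) (hgen : ∀ z, z ⤳ y → z ≠ y → z ∈ U)

include hres hyU hgen in
theorem bijective_punctured :
    Function.Bijective ((Spec (X.presheaf.stalk y)).presheaf.map
      (homOfLE (le_top : FEt.puncturedSpec (X.presheaf.stalk y) ≤ ⊤)).op) := by
  obtain ⟨W, hW, hyW, -⟩ := exists_isAffineOpen_mem_and_subset (U := (⊤ : X.Opens)) (x := y) trivial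
  have hP : f y ⁻¹ᵁ U = FEt.puncturedSpec (X.presheaf.stalk y) := preimage_eq_punctured y hyU hgen
  have hPN : ∀ N : X.Opens, y ∈ N → f y ⁻¹ᵁ (N ⊓ U) = FEt.puncturedSpec (X.presheaf.stalk y) := fun N hN => by
    refine le_antisymm (fun q hq => hP ▸ hq.2) fun q hq => ⟨?_, (hP.symm ▸ hq : q ∈ f y ⁻¹ᵁ U)⟩
    have : q ∈ f y ⁻¹ᵁ N := by rw [preimage_eq_top y hN]; trivial
    exact this
  constructor
  · rw [injective_iff_map_eq_zero]
    intro c hc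
    obtain ⟨N, a, hyN, hNW, ha⟩ := exists_rep y W hyW c
    have h1 : (f y).app (N ⊓ U) (rres inf_le_left a) = 0 := by
      rw [StalkLim.app_res, ha, rres_rres]
      have := congrArg (rres (le_of_eq (hPN N hyN))) hc
      rw [map_zero, rres_rres] at this
      exact this
    obtain ⟨N', hy', hN'W, h2⟩ := exists_zero y hW hyW (inf_le_left.trans hNW) _ h1
    have h3 : rres (inf_le_left : N ⊓ N' ≤ N) a = 0 := by
      apply (hres (N ⊓ N')).1
      rw [map_zero, rres_rres]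
      have h4 := congrArg (rres (le_inf (inf_le_inf_right U inf_le_left) (inf_le_left.trans inf_le_right) :
        (N ⊓ N') ⊓ U ≤ (N ⊓ U) ⊓ N')) h2
      rw [map_zero, rres_rres, rres_rres] at h4
      exact h4
    have h5 := congrArg ((f y).app (N ⊓ N')) h3
    rw [map_zero, StalkLim.app_res, ha, rres_rres] at h5
    exact (bijective_res_of_eq (preimage_eq_top y (show y ∈ N ⊓ N' from ⟨hyN, hy'⟩)) le_top).1
      (h5.trans (map_zero _).symm)
  · intro b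
    obtain ⟨N, a, hyN, hNW, ha⟩ := exists_lift y hW hyW (inf_le_left : W ⊓ U ≤ W) (rres (le_of_eq (hPN W hyW)) b)
    let M := W ⊓ N
    obtain ⟨c, hc⟩ := (hres M).2 (rres (le_inf (inf_le_inf_right U inf_le_left) (inf_le_left.trans inf_le_right)) a)
    have hM : f y ⁻¹ᵁ M = ⊤ := preimage_eq_top y ⟨hyW, hyN⟩
    refine ⟨rres (le_of_eq hM.symm) ((f y).app M c), ?_⟩
    apply (bijective_res_of_eq (hPN M ⟨hyW, hyN⟩) (le_of_eq (hPN M ⟨hyW, hyN⟩))).1
    have h1 := congrArg ((f y).app (M ⊓ U)) hc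
    rw [StalkLim.app_res, StalkLim.app_res, ha, rres_rres, rres_rres] at h1
    show rres _ (rres _ (rres _ _)) = rres _ b
    rw [rres_rres, rres_rres]
    exact h1

variable {W : X.Opens} (hW : IsAffineOpen W) (hyW : y ∈ W)

omit hgen hyU hext in
include hW hyW in
theorem exists_lift_data {F : Type u} [Finite F] (O : F → X.Opens) (hOle : ∀ i, O i ≤ W ⊓ U)
    (hcov : f y ⁻¹ᵁ (W ⊓ U) ≤ ⨆ i, f y ⁻¹ᵁ O i)
    (a₀ : ∀ i j : F, Γ(Spec (X.presheaf.stalk y), f y ⁻¹ᵁ O i ⊓ f y ⁻¹ᵁ O j))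
    (hself₀ : ∀ i, a₀ i i = 1)
    (hcoc₀ : ∀ (i j k : F) (V : (Spec (X.presheaf.stalk y)).Opens) (h₁ : V ≤ f y ⁻¹ᵁ O i ⊓ f y ⁻¹ᵁ O j)
      (h₂ : V ≤ f y ⁻¹ᵁ O j ⊓ f y ⁻¹ᵁ O k) (h₃ : V ≤ f y ⁻¹ᵁ O i ⊓ f y ⁻¹ᵁ O k),
      rres h₁ (a₀ i j) * rres h₂ (a₀ j k) = rres h₃ (a₀ i k)) :
    ∃ (N' : X.Opens) (_ : y ∈ N') (b : ∀ i j, Γ(X, (O i ⊓ N') ⊓ (O j ⊓ N'))),
      (N' ⊓ U ≤ ⨆ i, O i ⊓ N') ∧ (∀ i, b i i = 1) ∧
      (∀ (i j k : F) (V : X.Opens) (h₁ : V ≤ (O i ⊓ N') ⊓ (O j ⊓ N')) (h₂ : V ≤ (O j ⊓ N') ⊓ (O k ⊓ N'))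
        (h₃ : V ≤ (O i ⊓ N') ⊓ (O k ⊓ N')), rres h₁ (b i j) * rres h₂ (b j k) = rres h₃ (b i k)) ∧
      ∀ i j (V : (Spec (X.presheaf.stalk y)).Opens) (hV : V ≤ f y ⁻¹ᵁ ((O i ⊓ N') ⊓ (O j ⊓ N'))),
        rres hV ((f y).app _ (b i j)) =
          rres (hV.trans ((f y).preimage_mono (inf_le_inf inf_le_left inf_le_left))) (a₀ i j) := by
  let Z := Spec (X.presheaf.stalk y)
  have hOW : ∀ i : F, O i ≤ W := fun i => (hOle i).trans inf_le_left
  choose N₁ a hy₁ hN₁ ha using fun p : F × F =>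
    exists_lift y hW hyW (inf_le_left.trans (hOW p.1) : O p.1 ⊓ O p.2 ≤ W) (a₀ p.1 p.2)
  obtain ⟨N, hyN, hNW, hN⟩ := exists_common y N₁ hy₁ W hyW
  let a' : ∀ i j : F, Γ(X, (O i ⊓ N) ⊓ (O j ⊓ N)) := fun i j =>
    rres (le_inf (inf_le_inf inf_le_left inf_le_left) ((inf_le_left.trans inf_le_right).trans (hN (i, j)))) (a (i, j))
  have ha' : ∀ (i j : F) (V : Z.Opens) (hV : V ≤ f y ⁻¹ᵁ ((O i ⊓ N) ⊓ (O j ⊓ N))),
      rres hV ((f y).app _ (a' i j)) =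
        rres (hV.trans ((f y).preimage_mono (inf_le_inf inf_le_left inf_le_left))) (a₀ i j) := fun i j V hV => by
    show rres hV ((f y).app _ (rres (le_inf (inf_le_inf inf_le_left inf_le_left)
      ((inf_le_left.trans inf_le_right).trans (hN (i, j)))) (a (i, j)))) = _
    rw [StalkLim.app_res]
    exact ((congrArg (fun t => rres hV (rres _ t)) (ha (i, j))).trans (rres_rres _ _ _)).trans (rres_rres _ _ _)
  choose M₁ hM₁y hM₁W hM₁ using fun i : F => eq_one_near y hW hyW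
    ((inf_le_left.trans inf_le_left : (O i ⊓ N) ⊓ (O i ⊓ N) ≤ _).trans (hOW i)) (a' i i) (by
      rw [← rres_self le_rfl ((f y).app _ (a' i i)), ha', hself₀]
      exact map_one _)
  let T : F × F × F → X.Opens := fun t => (O t.1 ⊓ N) ⊓ (O t.2.1 ⊓ N) ⊓ (O t.2.2 ⊓ N)
  have hT₁ : ∀ t, T t ≤ (O t.1 ⊓ N) ⊓ (O t.2.1 ⊓ N) := fun t => inf_le_left
  have hT₂ : ∀ t, T t ≤ (O t.2.1 ⊓ N) ⊓ (O t.2.2 ⊓ N) := fun t => inf_le_inf_right _ inf_le_right
  have hT₃ : ∀ t, T t ≤ (O t.1 ⊓ N) ⊓ (O t.2.2 ⊓ N) := fun t => inf_le_inf_right _ inf_le_left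
  choose M₂ hM₂y hM₂W hM₂ using fun t : F × F × F => eq_near y hW hyW
    (((inf_le_left.trans inf_le_left).trans inf_le_left : T t ≤ _).trans (hOW t.1))
    (rres (hT₁ t) (a' t.1 t.2.1) * rres (hT₂ t) (a' t.2.1 t.2.2)) (rres (hT₃ t) (a' t.1 t.2.2)) (by
      rw [map_mul, StalkLim.app_res y (hT₁ t) (a' t.1 t.2.1), StalkLim.app_res y (hT₂ t) (a' t.2.1 t.2.2),
        StalkLim.app_res y (hT₃ t) (a' t.1 t.2.2), ha', ha', ha']
      exact hcoc₀ t.1 t.2.1 t.2.2 _ _ _ _)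
  obtain ⟨N₃, hy₃, hN₃W, hN₃⟩ := exists_le y hW hyW (inf_le_left : W ⊓ U ≤ W) (O' := ⨆ i : F, O i) (by
    intro z hz
    obtain ⟨i, hi⟩ := Opens.mem_iSup.mp (hcov hz)
    exact Opens.mem_iSup.mpr ⟨i, hi⟩)
  obtain ⟨N', hy', hN'N, hN'⟩ := exists_common y (fun p : F ⊕ F × F × F => Sum.elim M₁ M₂ p)
    (fun p => by cases p <;> simp [hM₁y, hM₂y]) (N ⊓ N₃) ⟨hyN, hy₃⟩
  have hN'N1 : N' ≤ N := hN'N.trans inf_le_left
  refine ⟨N', hy', fun i j => rres (inf_le_inf (inf_le_inf_left _ hN'N1) (inf_le_inf_left _ hN'N1)) (a' i j),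
    fun x hx => ?_, fun i => ?_, fun i j k V h₁ h₂ h₃ => ?_, fun i j V hV => ?_⟩
  · obtain ⟨i, hi⟩ := Opens.mem_iSup.mp (hN₃ ⟨⟨hNW (hN'N1 hx.1), hx.2⟩, (hN'N hx.1).2⟩)
    exact Opens.mem_iSup.mpr ⟨i, hi, hx.1⟩
  · have h1 := congrArg (rres (show (O i ⊓ N') ⊓ (O i ⊓ N') ≤ ((O i ⊓ N) ⊓ (O i ⊓ N)) ⊓ M₁ i from
      le_inf (inf_le_inf (inf_le_inf_left _ hN'N1) (inf_le_inf_left _ hN'N1))
        ((inf_le_left.trans inf_le_right).trans (hN' (.inl i))))) (hM₁ i)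
    rw [map_one, rres_rres] at h1
    exact h1
  · have hle : V ≤ T (i, j, k) ⊓ M₂ (i, j, k) :=
      le_inf (le_inf (le_inf ((h₁.trans inf_le_left).trans (inf_le_inf_left _ hN'N1))
        ((h₁.trans inf_le_right).trans (inf_le_inf_left _ hN'N1)))
        ((h₂.trans inf_le_right).trans (inf_le_inf_left _ hN'N1)))
        ((h₁.trans (inf_le_left.trans inf_le_right)).trans (hN' (.inr (i, j, k))))
    have h1 := congrArg (rres hle) (hM₂ (i, j, k))
    simp only [map_mul, rres_rres] at h1 ⊢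
    exact h1
  · rw [StalkLim.app_res, rres_rres]
    exact ha' i j V _

omit hgen hyU in
include hext in
/-- A cocycle off `y` becomes a coboundary near `y`. -/
theorem exists_triv_near {N' : X.Opens} (hy' : y ∈ N') (D : Data (N' ⊓ U)) :
    ∃ N'' : X.Opens, y ∈ N'' ∧ N'' ≤ N' ∧ Triv (Spread.restrict D N'') := by
  obtain ⟨M, hM, e', he', hrel⟩ := exists_module D
  obtain ⟨L, hL, ⟨ψ⟩⟩ := hext N' (M.restrict (N' ⊓ U).ι) hM
  obtain ⟨W'', hyW'', ⟨iL⟩⟩ := hL ⟨y, hy'⟩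
  let N'' : X.Opens := N'.ι ''ᵁ W''
  have hN'' : N'' ≤ N' := by rintro _ ⟨z, -, rfl⟩; exact z.2
  let h₁ : ((N'' ⊓ U : X.Opens) : Scheme.{u}) ⟶ ((N' ⊓ U : X.Opens) : Scheme.{u}) := X.homOfLE (inf_le_inf_right U hN'')
  let k : ((N' ⊓ U : X.Opens) : Scheme.{u}) ⟶ (N' : Scheme.{u}) := X.homOfLE inf_le_left
  let h₂ : ((N'' ⊓ U : X.Opens) : Scheme.{u}) ⟶ (W'' : Scheme.{u}) :=
    X.homOfLE (inf_le_left : N'' ⊓ U ≤ N'') ≫ (N'.ι.isoImage W'').inv
  have : IsOpenImmersion h₂ := inferInstanceAs (IsOpenImmersion (_ ≫ _))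
  have hcomm : h₁ ≫ k = h₂ ≫ W''.ι := by
    rw [← cancel_mono N'.ι]
    simp only [h₁, h₂, k, N'', Category.assoc, Scheme.homOfLE_ι, Scheme.Hom.isoImage_inv_ι]
  let φ₁ : M.restrict (N'' ⊓ U).ι ≅ (M.restrict (N' ⊓ U).ι).restrict h₁ :=
    (Scheme.Modules.restrictFunctorCongr (X.homOfLE_ι (inf_le_inf_right U hN'')).symm).app M ≪≫
      (Scheme.Modules.restrictFunctorComp h₁ (N' ⊓ U).ι).app M
  let φ₂ : (M.restrict (N' ⊓ U).ι).restrict h₁ ≅ (L.restrict W''.ι).restrict h₂ :=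
    (Scheme.Modules.restrictFunctor h₁).mapIso ψ.symm ≪≫ ((Scheme.Modules.restrictFunctorComp h₁ k).app L).symm ≪≫
      (Scheme.Modules.restrictFunctorCongr hcomm).app L ≪≫ (Scheme.Modules.restrictFunctorComp h₂ W''.ι).app L
  obtain ⟨σ, hσ⟩ := exists_isGen_of_iso
    (φ₁ ≪≫ φ₂ ≪≫ (Scheme.Modules.restrictFunctor h₂).mapIso iL ≪≫ Scheme.Modules.restrictUnitIso _)
  have hyN'' : y ∈ N'' := ⟨⟨y, hy'⟩, hyW'', rfl⟩
  have hUU : N' ⊓ U ⊓ N'' = N'' ⊓ U := le_antisymm (le_inf inf_le_right (inf_le_left.trans inf_le_right))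
    (le_inf (inf_le_inf_right U hN'') inf_le_left)
  exact ⟨N'', hyN'', hN'', triv_of_isGen (Spread.restrict D N'') (fun i => res M inf_le_left (e' i))
    (fun i => (he' i).restrict inf_le_left) (restrict_rel D N'' e' hrel) (res M hUU.le σ) (hσ.restrict hUU.le)⟩

omit hgen hyU in
include hext hW hyW in
/-- A cocycle on the punctured spectrum with cover from `X` is a coboundary. -/
theorem exists_coboundary {F : Type u} [Finite F] (O : F → X.Opens) (hOle : ∀ i, O i ≤ W ⊓ U)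
    (hcov : f y ⁻¹ᵁ (W ⊓ U) ≤ ⨆ i, f y ⁻¹ᵁ O i)
    (a₀ : ∀ i j : F, Γ(Spec (X.presheaf.stalk y), f y ⁻¹ᵁ O i ⊓ f y ⁻¹ᵁ O j))
    (hself₀ : ∀ i, a₀ i i = 1)
    (hcoc₀ : ∀ (i j k : F) (V : (Spec (X.presheaf.stalk y)).Opens) (h₁ : V ≤ f y ⁻¹ᵁ O i ⊓ f y ⁻¹ᵁ O j)
      (h₂ : V ≤ f y ⁻¹ᵁ O j ⊓ f y ⁻¹ᵁ O k) (h₃ : V ≤ f y ⁻¹ᵁ O i ⊓ f y ⁻¹ᵁ O k),
      rres h₁ (a₀ i j) * rres h₂ (a₀ j k) = rres h₃ (a₀ i k)) :
    ∃ c₀ : ∀ i, Γ(Spec (X.presheaf.stalk y), f y ⁻¹ᵁ O i), (∀ i, IsUnit (c₀ i)) ∧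
      ∀ i j : F, rres (inf_le_left : f y ⁻¹ᵁ O i ⊓ f y ⁻¹ᵁ O j ≤ _) (c₀ i) =
        rres (inf_le_right : f y ⁻¹ᵁ O i ⊓ f y ⁻¹ᵁ O j ≤ _) (c₀ j) * a₀ i j := by
  let Z := Spec (X.presheaf.stalk y)
  obtain ⟨N', hy', b, hbcov, hbself, hbcoc, hb⟩ := exists_lift_data y hW hyW O hOle hcov a₀ hself₀ hcoc₀
  let D : Data (N' ⊓ U) :=
    { ι := F
      O := fun i => O i ⊓ N'
      a := b
      le := fun i => le_inf inf_le_right (inf_le_left.trans ((hOle i).trans inf_le_right))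
      cover := hbcov
      self := hbself
      coc := hbcoc }
  obtain ⟨N'', hyN'', hN'', c, hcu, hc⟩ := exists_triv_near y hext hy' D
  have hpre : ∀ i : F, f y ⁻¹ᵁ O i ≤ f y ⁻¹ᵁ ((O i ⊓ N') ⊓ N'') := fun i z hz => by
    have h1 : z ∈ f y ⁻¹ᵁ N'' := by rw [preimage_eq_top y hyN'']; trivial
    exact ⟨⟨hz, hN'' h1⟩, h1⟩
  let c₀ : ∀ i : F, Γ(Z, f y ⁻¹ᵁ O i) := fun i => rres (hpre i) ((f y).app _ (c i))
  have hc₀ : ∀ i j : F, rres (inf_le_left : f y ⁻¹ᵁ O i ⊓ f y ⁻¹ᵁ O j ≤ _) (c₀ i) =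
      rres (inf_le_right : f y ⁻¹ᵁ O i ⊓ f y ⁻¹ᵁ O j ≤ _) (c₀ j) * a₀ i j := fun i j => by
    let V : Z.Opens := f y ⁻¹ᵁ O i ⊓ f y ⁻¹ᵁ O j
    have hV : V ≤ f y ⁻¹ᵁ (((O i ⊓ N') ⊓ N'') ⊓ ((O j ⊓ N') ⊓ N'')) :=
      fun z hz => ⟨hpre i hz.1, hpre j hz.2⟩
    have hcij : rres (inf_le_left : ((O i ⊓ N') ⊓ N'') ⊓ ((O j ⊓ N') ⊓ N'') ≤ _) (c i) =
        rres (inf_le_right : ((O i ⊓ N') ⊓ N'') ⊓ ((O j ⊓ N') ⊓ N'') ≤ _) (c j) *
          rres (inf_le_inf inf_le_left inf_le_left : ((O i ⊓ N') ⊓ N'') ⊓ ((O j ⊓ N') ⊓ N'') ≤ _) (b i j) := hc i j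
    have h1 := push_rel y (inf_le_left : ((O i ⊓ N') ⊓ N'') ⊓ ((O j ⊓ N') ⊓ N'') ≤ _)
      (inf_le_right : ((O i ⊓ N') ⊓ N'') ⊓ ((O j ⊓ N') ⊓ N'') ≤ _) (inf_le_inf inf_le_left inf_le_left)
      (c i) (c j) (b i j) hcij V hV
    exact (rres_rres _ _ _).trans (h1.trans (congrArg₂ (· * ·) (rres_rres _ _ _).symm
      ((hb i j V _).trans (rres_self _ _))))
  exact ⟨c₀, fun i => ((hcu i).map ((f y).app _).hom).map (rres (hpre i)).hom, hc₀⟩

include hext hyU hgen in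
theorem picTrivial_punctured : ParaF.PicTrivial (FEt.puncturedSpec (X.presheaf.stalk y) : Scheme.{u}) := by
  classical
  intro L₀ hL₀
  let Z := Spec (X.presheaf.stalk y)
  let P : Z.Opens := FEt.puncturedSpec (X.presheaf.stalk y)
  let M₀ := (Scheme.Modules.pushforward P.ι).obj L₀
  let r : M₀.restrict P.ι ≅ L₀ := restrictPushforwardIso P.ι L₀
  have hM₀ : PicF.IsInvertible (M₀.restrict P.ι) := PicCl.isInvertible_of_iso r.symm hL₀
  obtain ⟨W, hW, hyW, -⟩ := exists_isAffineOpen_mem_and_subset (U := (⊤ : X.Opens)) (x := y) trivial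
  have hP : f y ⁻¹ᵁ (W ⊓ U) = P := preimage_eq_punctured y (fun h => hyU h.2)
    fun z hz hne => ⟨hz.mem_open W.2 hyW, hgen z hz hne⟩
  -- a finite cover by traces of opens of `X`, with generators
  have hloc : ∀ q : P, ∃ O : X.Opens, q.1 ∈ f y ⁻¹ᵁ O ∧ O ≤ W ⊓ U ∧
      ∃ σ : Γ(M₀, f y ⁻¹ᵁ O), IsGen M₀ (f y ⁻¹ᵁ O) σ := fun q => by
    obtain ⟨T, σ, hqT, hTP, hσ⟩ := exists_isGen_of_invertible_restrict hM₀ q.2
    obtain ⟨O', hO', hO'T⟩ := (f y).isEmbedding.isInducing.isOpen_iff.mp T.2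
    have hTle : f y ⁻¹ᵁ ((⟨O', hO'⟩ : X.Opens) ⊓ (W ⊓ U)) ≤ T := fun z hz => by
      have : z ∈ (f y) ⁻¹' O' := hz.1
      rwa [hO'T] at this
    refine ⟨⟨O', hO'⟩ ⊓ (W ⊓ U), ⟨?_, ?_⟩, inf_le_right, _, hσ.restrict hTle⟩
    · show q.1 ∈ (f y) ⁻¹' O'
      rw [hO'T]; exact hqT
    · show q.1 ∈ f y ⁻¹ᵁ (W ⊓ U)
      rw [hP]; exact q.2
  choose O hqO hOle e he using hloc
  have : NoetherianSpace Z := inferInstanceAs (NoetherianSpace (PrimeSpectrum (X.presheaf.stalk y)))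
  obtain ⟨F, hF⟩ := (NoetherianSpace.isCompact (P : Set Z)).elim_finite_subcover
    (fun q : P => (f y ⁻¹ᵁ O q : Set Z)) (fun q => (f y ⁻¹ᵁ O q).2)
    (fun z hz => Set.mem_iUnion.mpr ⟨⟨z, hz⟩, hqO ⟨z, hz⟩⟩)
  have hcov : P ≤ ⨆ i : F, f y ⁻¹ᵁ O i := fun z hz => by
    obtain ⟨q, hq, hzq⟩ := Set.mem_iUnion₂.mp (hF hz)
    exact Opens.mem_iSup.mpr ⟨⟨q, hq⟩, hzq⟩
  let D₀ : Data P := ofGens (fun i : F => f y ⁻¹ᵁ O i) (fun i => ((f y).preimage_mono (hOle i)).trans hP.le) hcov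
    (fun i => e i) (fun i => he i)
  -- lift the cocycle
  let a₀ : ∀ i j : F, Γ(Z, f y ⁻¹ᵁ O i ⊓ f y ⁻¹ᵁ O j) := D₀.a
  have hself₀ : ∀ i : F, a₀ i i = 1 := D₀.self
  have hcoc₀ : ∀ (i j k : F) (V : Z.Opens) (h₁ : V ≤ f y ⁻¹ᵁ O i ⊓ f y ⁻¹ᵁ O j) (h₂ : V ≤ f y ⁻¹ᵁ O j ⊓ f y ⁻¹ᵁ O k)
      (h₃ : V ≤ f y ⁻¹ᵁ O i ⊓ f y ⁻¹ᵁ O k), rres h₁ (a₀ i j) * rres h₂ (a₀ j k) = rres h₃ (a₀ i k) := D₀.coc
  obtain ⟨c₀, hc₀u, hc₀⟩ := exists_coboundary y hext hW hyW (fun i : F => O i) (fun i => hOle i)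
    (hP.le.trans hcov) a₀ hself₀ hcoc₀
  have hD₀ : Triv D₀ := ⟨c₀, hc₀u, hc₀⟩
  obtain ⟨σ₀, hσ₀⟩ := exists_isGen_of_triv D₀ (fun (i : F) => e i) (fun (i : F) => he i) (ofGens_rel _ _ _ _ _) hD₀
  obtain ⟨φ⟩ := nonempty_iso_of_isGen hσ₀
  exact ⟨r.symm ≪≫ φ⟩

end Forward

theorem pair_iff_stalks (Y : Closeds X) :
    ParaF.IsParafactorialPair X Y ↔ ∀ y, y ∈ Y → ParaF.IsParafactorialLocalRing (X.presheaf.stalk y) := by
  constructor
  · intro h y hy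
    let Y' : Closeds X := ⟨closure {y}, isClosed_closure⟩
    have h' := (pair_iff _).mp (Groth.Agent.S2829.result X Y Y'
      (show closure {y} ⊆ (Y : Set X) from Y.isClosed.closure_subset_iff.mpr (Set.singleton_subset_iff.mpr hy)) h)
    have hyU : y ∉ Y'.compl := fun hn => hn (subset_closure rfl)
    have hgen : ∀ z, z ⤳ y → z ≠ y → z ∈ Y'.compl := fun z hz hne hmem =>
      hne (hz.antisymm (specializes_iff_mem_closure.mpr hmem)).eq
    exact (parafactorial_iff (A := X.presheaf.stalk y)).mpr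
      ⟨bijective_punctured y h'.1 hyU hgen, picTrivial_punctured y h'.2 hyU hgen⟩
  · intro h
    have hst : ∀ y ∉ Y.compl, ParaF.IsParafactorialLocalRing (X.presheaf.stalk y) := fun y hy =>
      h y (not_not.mp hy)
    exact (pair_iff _).mpr ⟨resBijOn_of_stalks hst, ext_of_stalks hst⟩

end Groth.Agent.ParaFLib.StalkPair
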