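import Groth.Agent.ParaFLib.Pairs
import Groth.Prelude.Def_FEt

/-!
# Parafactorial local rings
-/

set_option backward.isDefEq.respectTransparency.types false

noncomputable section

universe u

open CategoryTheory AlgebraicGeometry TopologicalSpace Opposite

namespace Groth.Agent.ParaFLib

variable {A : Type u} [CommRing A] [IsLocalRing A]

theorem eq_top_of_closedPoint_mem (W : (Spec (CommRingCat.of A)).Opens) (h : IsLocalRing.closedPoint A ∈ W) :
    W = ⊤ :=
  eq_top_iff.mpr fun x _ => (IsLocalRing.specializes_closedPoint x).mem_open W.2 h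

theorem restrict_iso_of_isInvertible {L : (Spec (CommRingCat.of A)).Modules} (hL : PicF.IsInvertible L)
    (U : (Spec (CommRingCat.of A)).Opens) :
    Nonempty (L.restrict U.ι ≅ Coh.structureModule (U : Scheme.{u})) := by
  obtain ⟨W, hW, ⟨i⟩⟩ := hL (IsLocalRing.closedPoint A)
  have hUW : U ≤ W := by rw [eq_top_of_closedPoint_mem W hW]; exact le_top
  exact ⟨(Scheme.Modules.restrictFunctorCongr (Scheme.homOfLE_ι _ hUW).symm).app L ≪≫
    (Scheme.Modules.restrictFunctorComp ((Spec (CommRingCat.of A)).homOfLE hUW) W.ι).app L ≪≫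
    (Scheme.Modules.restrictFunctor ((Spec (CommRingCat.of A)).homOfLE hUW)).mapIso i ≪≫
    Scheme.Modules.restrictUnitIso _⟩

/-- The punctured spectrum is the complement in the definition of parafactorial local rings. -/
theorem compl_closedPoint :
    (⟨{IsLocalRing.closedPoint A}, IsLocalRing.isClosed_singleton_closedPoint A⟩ :
      Closeds (Spec (CommRingCat.of A))).compl = FEt.puncturedSpec A := rfl

theorem ext_id {X : Scheme.{u}} : Ext (𝟙 X) :=
  fun L₀ hL₀ => ⟨L₀, hL₀, ⟨Scheme.Modules.restrictFunctorId.app L₀⟩⟩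

theorem parafactorial_iff : ParaF.IsParafactorialLocalRing A ↔
    (Function.Bijective ((Spec (CommRingCat.of A)).presheaf.map
        (homOfLE (le_top : FEt.puncturedSpec A ≤ ⊤)).op) ∧
      ParaF.PicTrivial (FEt.puncturedSpec A : Scheme.{u})) := by
  let X := Spec (CommRingCat.of A)
  let U : X.Opens := FEt.puncturedSpec A
  have eU : (⊤ : X.Opens) ⊓ U = U := top_inf_eq _
  unfold ParaF.IsParafactorialLocalRing
  rw [pair_iff, compl_closedPoint]
  constructor
  · rintro ⟨hb, he⟩
    refine ⟨(res_congr₂ rfl eU _ le_top).mp (hb ⊤), fun L₀ hL₀ => ?_⟩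
    have hE : Ext U.ι := by
      refine ext_of_iso (X.homOfLE (inf_le_left : ⊤ ⊓ U ≤ ⊤)) U.ι (X.isoOfEq eU.symm).hom X.topIso.inv ?_ (he ⊤)
      rw [← cancel_mono (⊤ : X.Opens).ι]
      simp
    obtain ⟨L, hL, ⟨e⟩⟩ := hE L₀ hL₀
    obtain ⟨t⟩ := restrict_iso_of_isInvertible hL U
    exact ⟨e.symm ≪≫ t⟩
  · rintro ⟨hb, hp⟩
    have hVU : ∀ V : X.Opens, IsLocalRing.closedPoint A ∉ V → V ⊓ U = V := fun V hV =>
      inf_eq_left.mpr fun x hx he => hV ((show x = IsLocalRing.closedPoint A from he) ▸ hx)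
    refine ⟨fun V => ?_, fun V => ?_⟩
    · by_cases hV : IsLocalRing.closedPoint A ∈ V
      · rw [eq_top_of_closedPoint_mem V hV]
        exact (res_congr₂ rfl eU _ le_top).mpr hb
      · exact bijective_res_of_eq (hVU V hV) _
    · by_cases hV : IsLocalRing.closedPoint A ∈ V
      · obtain rfl := eq_top_of_closedPoint_mem V hV
        refine ext_of_iso U.ι _ (X.isoOfEq eU).hom X.topIso.hom (by simp [X]; rfl) fun L₀ hL₀ => ?_
        exact ⟨Coh.structureModule X, isInvertible_structureModule X,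
          ⟨Scheme.Modules.restrictUnitIso U.ι ≪≫ (hp L₀ hL₀).some.symm⟩⟩
      · let j := X.homOfLE (inf_le_left : V ⊓ U ≤ V)
        have : IsIso j := by
          have : j = (X.isoOfEq (hVU V hV)).hom := by rw [← cancel_mono V.ι]; exact (X.homOfLE_ι _).trans (X.isoOfEq_hom_ι _).symm
          rw [this]; infer_instance
        exact ext_of_iso (𝟙 (V : Scheme.{u})) j j (𝟙 _) (by simp) ext_id

end Groth.Agent.ParaFLib
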