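import Groth.Agent.ParaFLib.UFD
import Groth.Agent.ParaFLib.Local
import Groth.Agent.HartogsAffine.Basic
import Groth.Agent.RegLoc.Serre
import Mathlib.RingTheory.UniqueFactorizationDomain.Basic

/-!
# Picard triviality of opens of the spectrum of a factorial domain; Hartogs at the closed point
-/

set_option backward.isDefEq.respectTransparency.types false

noncomputable section

universe u

open CategoryTheory AlgebraicGeometry TopologicalSpace Opposite

namespace Groth.Agent.ParaFLib.PicUFD

theorem picTrivial_open {X : Scheme.{u}} [IsAffine X] [IsIntegral X] [UniqueFactorizationMonoid Γ(X, ⊤)]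
    (U : X.Opens) (hU : IsCompact (U : Set X)) : ParaF.PicTrivial (U : Scheme.{u}) := by
  intro L hL
  let M := (Scheme.Modules.pushforward U.ι).obj L
  let r : M.restrict U.ι ≅ L := restrictPushforwardIso U.ι L
  obtain ⟨s, hs⟩ := UFD.exists_isGen_of_local M U hU fun x hx => by
    obtain ⟨W, hW, ⟨i⟩⟩ := hL ⟨x, hx⟩
    let k : (U.ι ''ᵁ W : Scheme.{u}) ⟶ (W : Scheme.{u}) := (U.ι.isoImage W).inv
    have hk : k ≫ W.ι ≫ U.ι = (U.ι ''ᵁ W).ι := Scheme.Hom.isoImage_inv_ι U.ι W
    let φ : M.restrict (U.ι ''ᵁ W).ι ≅ Coh.structureModule (U.ι ''ᵁ W : Scheme.{u}) :=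
      (Scheme.Modules.restrictFunctorCongr hk.symm).app M ≪≫
      (Scheme.Modules.restrictFunctorComp k (W.ι ≫ U.ι)).app M ≪≫
      (Scheme.Modules.restrictFunctor k).mapIso
        ((Scheme.Modules.restrictFunctorComp W.ι U.ι).app M ≪≫
          (Scheme.Modules.restrictFunctor W.ι).mapIso r ≪≫ i) ≪≫
      Scheme.Modules.restrictUnitIso k
    obtain ⟨e, he⟩ := LFFrame.exists_isFrame_of_split (M := M) (fun _ : Fin 1 => φ.inv) (fun _ => φ.hom)
      (fun a b => by simp [Subsingleton.elim a b]) (by simp)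
    refine ⟨U.ι ''ᵁ W, e 0, ⟨⟨x, hx⟩, hW, rfl⟩, ?_⟩
    rw [Props.GenLocus.isGen_iff_isFrame]
    have : (fun _ : Fin 1 => e 0) = e := funext fun a => congrArg e (Subsingleton.elim _ _)
    rw [this]
    exact he
  obtain ⟨φ⟩ := LFFrame.IsFrame.nonempty_restrict_iso ((Props.GenLocus.isGen_iff_isFrame s).mp hs)
  exact ⟨r.symm ≪≫ φ⟩

variable (A : Type u) [CommRing A] [IsLocalRing A] [IsNoetherianRing A]

theorem depth_stalk_closedPoint :
    LocCoh.depth ((Spec (CommRingCat.of A)).presheaf.stalk (IsLocalRing.closedPoint A))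
      ((Spec (CommRingCat.of A)).presheaf.stalk (IsLocalRing.closedPoint A)) = LocCoh.depth A A := by
  let S := (Spec (CommRingCat.of A)).presheaf.stalk (IsLocalRing.closedPoint A)
  let _ : Algebra A S := inferInstanceAs (Algebra A ((Spec.structureSheaf A).presheaf.stalk _))
  have : IsLocalization.AtPrime S (IsLocalRing.maximalIdeal A) :=
    inferInstanceAs (IsLocalization.AtPrime ((Spec.structureSheaf A).presheaf.stalk _) (IsLocalRing.closedPoint A).asIdeal)
  have : Module.Flat A S := IsLocalization.flat S (IsLocalRing.maximalIdeal A).primeCompl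
  have : IsLocalHom (algebraMap A S) := ⟨fun a ha =>
    by_contra fun h => ((IsLocalization.AtPrime.isUnit_to_map_iff S (IsLocalRing.maximalIdeal A) a).mp ha) h⟩
  rw [Hensel.UnramifiedFlat.depth_eq A S (IsLocalization.AtPrime.map_eq_maximalIdeal (IsLocalRing.maximalIdeal A) S)]

theorem bijective_punctured (h : (2 : ℕ∞) ≤ LocCoh.depth A A) :
    Function.Bijective ((Spec (CommRingCat.of A)).presheaf.map
      (homOfLE (le_top : FEt.puncturedSpec A ≤ ⊤)).op) := by
  refine HartogsAffine.bijective_res (X := Spec (CommRingCat.of A)) _ fun x hx => ?_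
  obtain rfl : x = IsLocalRing.closedPoint A := by_contra fun hne => hx hne
  rw [depth_stalk_closedPoint]
  exact h

theorem picTrivial_punctured [IsDomain A] (hA : UniqueFactorizationMonoid A) :
    ParaF.PicTrivial (FEt.puncturedSpec A : Scheme.{u}) := by
  have : UniqueFactorizationMonoid Γ(Spec (CommRingCat.of A), ⊤) :=
    MulEquiv.uniqueFactorizationMonoid (Scheme.ΓSpecIso (CommRingCat.of A)).symm.commRingCatIsoToRingEquiv.toMulEquiv hA
  exact picTrivial_open _ (NoetherianSpace.isCompact (α := Spec (CommRingCat.of A)) _)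

theorem two_le_depth_of_normal [IsDomain A] [IsIntegrallyClosed A] (h : (2 : WithBot ℕ∞) ≤ ringKrullDim A) :
    (2 : ℕ∞) ≤ LocCoh.depth A A := by
  have h2 := Groth.Agent.RegLoc.Serre.min_two_dim_le_depth (A := A)
  rw [min_eq_left h] at h2
  exact WithBot.coe_le_coe.mp h2

end Groth.Agent.ParaFLib.PicUFD
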