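import Groth.Agent.ParaFLib.Local
import Groth.Agent.QCoh.Basic
import Mathlib.AlgebraicGeometry.Stalk
import Mathlib.AlgebraicGeometry.Noetherian

/-!
# The spectrum of a local ring as a limit of neighbourhoods

For `O` inside an affine neighbourhood `W` of `y` in a locally Noetherian scheme, functions on the
preimage of `O` in `Spec O_{X,y}` are the colimit of functions on `O ∩ N` over neighbourhoods `N` of `y`.
-/

set_option backward.isDefEq.respectTransparency.types false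
set_option maxHeartbeats 800000

noncomputable section

universe u

open CategoryTheory AlgebraicGeometry TopologicalSpace Opposite

namespace Groth.Agent.ParaFLib.StalkLim

open Groth.Agent.QCoh

variable {X : Scheme.{u}} (y : X)

/-- The spectrum of the local ring at `y`, mapped to `X`. -/
abbrev f : Spec (X.presheaf.stalk y) ⟶ X := X.fromSpecStalk y

theorem f_closedPoint : f y (IsLocalRing.closedPoint (X.presheaf.stalk y)) = y :=
  Scheme.fromSpecStalk_closedPoint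

theorem preimage_eq_top {N : X.Opens} (hy : y ∈ N) : f y ⁻¹ᵁ N = ⊤ :=
  eq_top_of_closedPoint_mem (A := X.presheaf.stalk y) _ (show f y (IsLocalRing.closedPoint _) ∈ N by
    rwa [f_closedPoint])

theorem mem_range {z : X} : (∃ q, f y q = z) ↔ z ⤳ y := by
  rw [← Set.mem_range, Scheme.range_fromSpecStalk]
  rfl

theorem app_res {O O' : X.Opens} (h : O ≤ O') (a : Γ(X, O')) :
    (f y).app O (rres h a) = rres ((f y).preimage_mono h) ((f y).app O' a) :=
  ConcreteCategory.congr_hom ((f y).naturality (homOfLE h).op) a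

theorem app_eq_germ {N : X.Opens} (hy : y ∈ N) (a : Γ(X, N)) :
    (f y).app N a = rres (le_top : f y ⁻¹ᵁ N ≤ ⊤)
      ((Scheme.ΓSpecIso (X.presheaf.stalk y)).inv (X.presheaf.germ N y hy a)) :=
  ConcreteCategory.congr_hom (Scheme.fromSpecStalk_app hy) a

theorem exists_rep (N₀ : X.Opens) (hy : y ∈ N₀) (b : Γ(Spec (X.presheaf.stalk y), ⊤)) :
    ∃ (N : X.Opens) (a : Γ(X, N)), y ∈ N ∧ N ≤ N₀ ∧
      (f y).app N a = rres (le_top : f y ⁻¹ᵁ N ≤ ⊤) b := by
  obtain ⟨N₁, hy₁, a, ha⟩ := X.presheaf.exists_germ_eq (x := y) ((Scheme.ΓSpecIso (X.presheaf.stalk y)).hom b)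
  refine ⟨N₁ ⊓ N₀, rres (inf_le_left : N₁ ⊓ N₀ ≤ N₁) a, ⟨hy₁, hy⟩, inf_le_right, ?_⟩
  rw [app_eq_germ (N := N₁ ⊓ N₀) y ⟨hy₁, hy⟩, show X.presheaf.germ (N₁ ⊓ N₀) y ⟨hy₁, hy⟩ (rres inf_le_left a) = _ from
    X.presheaf.germ_res_apply (homOfLE inf_le_left) y ⟨hy₁, hy⟩ a, ha]
  exact congrArg (rres (le_top : f y ⁻¹ᵁ (N₁ ⊓ N₀) ≤ ⊤))
    (ConcreteCategory.congr_hom (Scheme.ΓSpecIso (X.presheaf.stalk y)).hom_inv_id b)

theorem exists_zero_of_app_eq_zero {N : X.Opens} (hy : y ∈ N) (a : Γ(X, N)) (ha : (f y).app N a = 0) :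
    ∃ (N' : X.Opens) (h : N' ≤ N), y ∈ N' ∧ rres h a = 0 := by
  have h1 : X.presheaf.germ N y hy a = 0 := by
    rw [app_eq_germ y hy] at ha
    have hb := (bijective_res_of_eq (preimage_eq_top y hy) le_top).1 (ha.trans (map_zero _).symm)
    have := congrArg (Scheme.ΓSpecIso (X.presheaf.stalk y)).hom hb
    rw [map_zero] at this
    exact (ConcreteCategory.congr_hom (Scheme.ΓSpecIso (X.presheaf.stalk y)).inv_hom_id _).symm.trans this
  obtain ⟨N', hy', i₁, i₂, h2⟩ := X.presheaf.germ_eq y hy hy a 0 (h1.trans (map_zero _).symm)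
  refine ⟨N', i₁.le, hy', ?_⟩
  rw [map_zero] at h2
  exact h2

theorem exists_common {ι : Type*} [Finite ι] (N : ι → X.Opens) (h : ∀ i, y ∈ N i) (N₀ : X.Opens) (h₀ : y ∈ N₀) :
    ∃ N' : X.Opens, y ∈ N' ∧ N' ≤ N₀ ∧ ∀ i, N' ≤ N i :=
  ⟨⟨(N₀ : Set X) ∩ ⋂ i, (N i : Set X), N₀.2.inter (isOpen_iInter_of_finite fun i => (N i).2)⟩,
    ⟨h₀, Set.mem_iInter.mpr h⟩, fun _ hx => hx.1, fun i _ hx => Set.mem_iInter.mp hx.2 i⟩

theorem isUnit_res {W O : X.Opens} (g : Γ(X, W)) (h : O ≤ X.basicOpen g) (h' : O ≤ W) : IsUnit (rres h' g) := by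
  have h1 : IsUnit (rres (X.basicOpen_le g) g) := X.toRingedSpace.isUnit_res_basicOpen g
  have h2 := h1.map (rres h).hom
  rwa [show (rres h).hom (rres (X.basicOpen_le g) g) = rres h' g from rres_rres _ h g] at h2

variable {W : X.Opens} (hW : IsAffineOpen W) (hyW : y ∈ W)

include hW in
theorem isCompact_of_le [IsLocallyNoetherian X] {O : X.Opens} (hO : O ≤ W) : IsCompact (O : Set X) := by
  have := IsLocallyNoetherian.component_noetherian ⟨W, hW⟩
  have : NoetherianSpace (W : Set X) := noetherianSpace_of_isAffineOpen W hW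
  have h1 : IsCompact ((Subtype.val : W → X) ⁻¹' (O : Set X)) := NoetherianSpace.isCompact _
  have h2 := h1.image continuous_subtype_val
  rwa [Set.image_preimage_eq_of_subset (fun x hx => ⟨⟨x, hO hx⟩, rfl⟩)] at h2

include hW in
theorem exists_finite_cover [IsLocallyNoetherian X] {O : X.Opens} (hO : O ≤ W) :
    ∃ G : Finset Γ(X, W), (∀ g : G, X.basicOpen g.1 ≤ O) ∧ O ≤ ⨆ g : G, X.basicOpen g.1 := by
  classical
  have h : ∀ x : O, ∃ g : Γ(X, W), X.basicOpen g ≤ O ∧ (x : X) ∈ X.basicOpen g := fun x =>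
    hW.exists_basicOpen_le x (hO x.2)
  choose g hg hxg using h
  obtain ⟨t, ht⟩ := (isCompact_of_le hW hO).elim_finite_subcover (fun x : O => (X.basicOpen (g x) : Set X))
    (fun x => (X.basicOpen (g x)).2) (fun x hx => Set.mem_iUnion.mpr ⟨⟨x, hx⟩, hxg _⟩)
  refine ⟨t.image g, fun ⟨h, hh⟩ => ?_, fun x hx => ?_⟩
  · obtain ⟨z, -, rfl⟩ := Finset.mem_image.mp hh
    exact hg z
  · obtain ⟨z, hz, hxz⟩ := Set.mem_iUnion₂.mp (ht hx)
    exact Opens.mem_iSup.mpr ⟨⟨g z, Finset.mem_image_of_mem g hz⟩, hxz⟩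

theorem exists_num_of_eq {Z : Scheme.{u}} {V : Z.Opens} (hV : IsAffineOpen V) (g : Γ(Z, V)) {O : Z.Opens}
    (hO : O = Z.basicOpen g) (hOV : O ≤ V) (b : Γ(Z, O)) :
    ∃ (a : Γ(Z, V)) (n : ℕ), b * rres hOV g ^ n = rres hOV a := by
  subst hO
  let := (Z.presheaf.map (homOfLE (Z.basicOpen_le g)).op).hom.toAlgebra
  have := hV.isLocalization_basicOpen g
  obtain ⟨n, a, ha⟩ := IsLocalization.Away.surj g b
  exact ⟨a, n, ha⟩

theorem exists_pow_of_eq {Z : Scheme.{u}} {V : Z.Opens} (hV : IsAffineOpen V) (g : Γ(Z, V)) {O : Z.Opens}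
    (hO : O = Z.basicOpen g) (hOV : O ≤ V) (a : Γ(Z, V)) (ha : rres hOV a = 0) :
    ∃ n : ℕ, g ^ n * a = 0 := by
  subst hO
  let := (Z.presheaf.map (homOfLE (Z.basicOpen_le g)).op).hom.toAlgebra
  have := hV.isLocalization_basicOpen g
  obtain ⟨⟨_, n, rfl⟩, hn⟩ := (IsLocalization.map_eq_zero_iff (Submonoid.powers g) Γ(Z, Z.basicOpen g) a).mp ha
  exact ⟨n, hn⟩

include hyW in
theorem isAffineOpen_preimage : IsAffineOpen (f y ⁻¹ᵁ W) := by
  rw [preimage_eq_top y hyW]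
  exact isAffineOpen_top _

include hW hyW in
theorem exists_zero_basicOpen (g : Γ(X, W)) (a : Γ(X, X.basicOpen g)) (ha : (f y).app _ a = 0) :
    ∃ N : X.Opens, y ∈ N ∧ rres (inf_le_left : X.basicOpen g ⊓ N ≤ _) a = 0 := by
  obtain ⟨a₀, n, hn⟩ := exists_num_of_eq hW g rfl (X.basicOpen_le g) a
  have h1 := congrArg ((f y).app (X.basicOpen g)) hn
  rw [map_mul, ha, zero_mul, app_res] at h1
  obtain ⟨m, hm⟩ := exists_pow_of_eq (isAffineOpen_preimage y hyW) ((f y).app W g)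
    (Scheme.preimage_basicOpen (f y) g) ((f y).preimage_mono (X.basicOpen_le g)) _ h1.symm
  rw [← map_pow, ← map_mul] at hm
  obtain ⟨N, hN, hyN, h2⟩ := exists_zero_of_app_eq_zero y hyW _ hm
  refine ⟨N, hyN, ?_⟩
  have hu : IsUnit (rres (inf_le_left.trans (X.basicOpen_le g) : X.basicOpen g ⊓ N ≤ W) g) := by
    exact isUnit_res g inf_le_left _
  have h3 := congrArg (rres (inf_le_right : X.basicOpen g ⊓ N ≤ N)) h2
  rw [map_zero, rres_rres, map_mul, map_pow] at h3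
  have h4 := congrArg (rres (inf_le_left : X.basicOpen g ⊓ N ≤ _)) hn
  rw [map_mul, map_pow, rres_rres, rres_rres] at h4
  rw [(hu.pow m).mul_right_eq_zero] at h3
  rw [h3, (hu.pow n).mul_left_eq_zero] at h4
  exact h4

include hW hyW in
/-- A function on `O` killed in `Spec O_{X,y}` vanishes near `y`. -/
theorem exists_zero [IsLocallyNoetherian X] {O : X.Opens} (hO : O ≤ W) (a : Γ(X, O)) (ha : (f y).app O a = 0) :
    ∃ N : X.Opens, y ∈ N ∧ N ≤ W ∧ rres (inf_le_left : O ⊓ N ≤ O) a = 0 := by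
  obtain ⟨G, hG, hcov⟩ := exists_finite_cover hW hO
  have h : ∀ g : G, ∃ N : X.Opens, y ∈ N ∧
      rres (inf_le_left : X.basicOpen g.1 ⊓ N ≤ _) (rres (hG g) a) = 0 := fun g =>
    exists_zero_basicOpen y hW hyW g.1 _ (by rw [app_res, ha, map_zero])
  choose N hyN hN using h
  obtain ⟨N', hy', hN'W, hN'⟩ := exists_common y N hyN W hyW
  refine ⟨N', hy', hN'W, ?_⟩
  refine X.sheaf.eq_of_locally_eq' (fun g : G => X.basicOpen g.1 ⊓ N') (O ⊓ N')
    (fun g => homOfLE (inf_le_inf_right N' (hG g))) (fun x hx => ?_) _ _ fun g => ?_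
  · obtain ⟨g, hg⟩ := Opens.mem_iSup.mp (hcov hx.1)
    exact Opens.mem_iSup.mpr ⟨g, hg, hx.2⟩
  · show rres (inf_le_inf_right N' (hG g)) _ = rres (inf_le_inf_right N' (hG g)) 0
    have h1 := congrArg (rres (inf_le_inf_left (X.basicOpen g.1) (hN' g))) (hN g)
    rw [map_zero, rres_rres, rres_rres] at h1
    rw [map_zero, rres_rres]
    exact h1

include hW hyW in
theorem exists_lift_basicOpen (g : Γ(X, W)) (b : Γ(Spec (X.presheaf.stalk y), f y ⁻¹ᵁ X.basicOpen g)) :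
    ∃ (N : X.Opens) (a : Γ(X, X.basicOpen g ⊓ N)), y ∈ N ∧
      (f y).app _ a = rres ((f y).preimage_mono inf_le_left) b := by
  obtain ⟨c, n, hn⟩ := exists_num_of_eq (isAffineOpen_preimage y hyW) ((f y).app W g)
    (Scheme.preimage_basicOpen (f y) g) ((f y).preimage_mono (X.basicOpen_le g)) b
  obtain ⟨N, a, hyN, hNW, ha⟩ := exists_rep y W hyW
    (rres (le_of_eq (preimage_eq_top y hyW).symm : (⊤ : (Spec (X.presheaf.stalk y)).Opens) ≤ f y ⁻¹ᵁ W) c)
  let O := X.basicOpen g ⊓ N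
  have hu : IsUnit (rres (inf_le_left.trans (X.basicOpen_le g) : O ≤ W) g) := by
    exact isUnit_res g inf_le_left _
  refine ⟨N, rres (inf_le_right : O ≤ N) a * ↑(hu.pow n).unit⁻¹, hyN, ?_⟩
  refine ((hu.map ((f y).app O).hom).pow n).mul_right_cancel ?_
  have h1 := congrArg (rres ((f y).preimage_mono (inf_le_left : O ≤ X.basicOpen g))) hn
  rw [map_mul, map_pow, rres_rres, rres_rres] at h1
  let φ : Γ(X, O) →+* Γ(Spec (X.presheaf.stalk y), f y ⁻¹ᵁ O) := ((f y).app O).hom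
  have h0 : φ ↑(hu.pow n).unit⁻¹ * φ (rres (inf_le_left.trans (X.basicOpen_le g) : O ≤ W) g) ^ n = 1 :=
    (congrArg (φ ↑(hu.pow n).unit⁻¹ * ·) (map_pow φ _ n).symm).trans
      ((map_mul φ _ _).symm.trans ((congrArg φ (IsUnit.val_inv_mul _)).trans (map_one φ)))
  show φ (rres (inf_le_right : O ≤ N) a * ↑(hu.pow n).unit⁻¹) * φ _ ^ n = _ * φ _ ^ n
  rw [map_mul, mul_assoc, h0, mul_one]
  show (f y).app O _ = _ * ((f y).app O _) ^ n
  rw [app_res, app_res, ha, rres_rres, rres_rres, h1]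

include hW hyW in
/-- A function on the preimage of `O` in `Spec O_{X,y}` comes from `O` near `y`. -/
theorem exists_lift [IsLocallyNoetherian X] {O : X.Opens} (hO : O ≤ W)
    (b : Γ(Spec (X.presheaf.stalk y), f y ⁻¹ᵁ O)) :
    ∃ (N : X.Opens) (a : Γ(X, O ⊓ N)), y ∈ N ∧ N ≤ W ∧
      (f y).app _ a = rres ((f y).preimage_mono inf_le_left) b := by
  classical
  obtain ⟨G, hG, hcov⟩ := exists_finite_cover hW hO
  have h : ∀ g : G, ∃ (N : X.Opens) (a : Γ(X, X.basicOpen g.1 ⊓ N)), y ∈ N ∧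
      (f y).app _ a = rres ((f y).preimage_mono inf_le_left) (rres ((f y).preimage_mono (hG g)) b) :=
    fun g => exists_lift_basicOpen y hW hyW g.1 _
  choose N a hyN ha using h
  obtain ⟨N₁, hy₁, hN₁W, hN₁⟩ := exists_common y N hyN W hyW
  let P : G → X.Opens := fun g => X.basicOpen g.1 ⊓ N₁
  let s : ∀ g : G, Γ(X, P g) := fun g => rres (inf_le_inf_left _ (hN₁ g)) (a g)
  have hs : ∀ g, (f y).app (P g) (s g) = rres ((f y).preimage_mono (inf_le_left.trans (hG g))) b := fun g => by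
    show (f y).app (P g) (rres (inf_le_inf_left _ (hN₁ g)) (a g)) = _
    rw [app_res, ha, rres_rres, rres_rres]
  have h2 : ∀ q : G × G, ∃ N' : X.Opens, y ∈ N' ∧ N' ≤ W ∧
      rres (inf_le_left : (P q.1 ⊓ P q.2) ⊓ N' ≤ _)
        (rres (inf_le_left : P q.1 ⊓ P q.2 ≤ _) (s q.1) - rres (inf_le_right : P q.1 ⊓ P q.2 ≤ _) (s q.2)) = 0 :=
    fun q => exists_zero y hW hyW ((inf_le_left.trans inf_le_left).trans (X.basicOpen_le _)) _ (by
      rw [map_sub, app_res (O := P q.1 ⊓ P q.2) (O' := P q.1), app_res (O := P q.1 ⊓ P q.2) (O' := P q.2), hs, hs,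
        rres_rres, rres_rres, sub_self])
  choose M hyM hMW hM using h2
  obtain ⟨N', hy', hN'₁, hN'⟩ := exists_common y M hyM N₁ hy₁
  let Q : G → X.Opens := fun g => X.basicOpen g.1 ⊓ N'
  let t : ∀ g : G, Γ(X, Q g) := fun g => rres (inf_le_inf_left _ hN'₁) (s g)
  obtain ⟨σ, hσ, -⟩ := X.sheaf.existsUnique_gluing' Q (O ⊓ N') (fun g => homOfLE (inf_le_inf_right N' (hG g)))
    (fun x hx => by
      obtain ⟨g, hg⟩ := Opens.mem_iSup.mp (hcov hx.1)
      exact Opens.mem_iSup.mpr ⟨g, hg, hx.2⟩) t (fun g g' => by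
      have hle : Q g ⊓ Q g' ≤ (P g ⊓ P g') ⊓ M (g, g') :=
        le_inf (inf_le_inf (inf_le_inf_left _ hN'₁) (inf_le_inf_left _ hN'₁))
          ((inf_le_left.trans inf_le_right).trans (hN' (g, g')))
      have h3 := congrArg (rres hle) (hM (g, g'))
      rw [map_zero, map_sub, map_sub, sub_eq_zero, rres_rres, rres_rres, rres_rres, rres_rres] at h3
      show rres (inf_le_left : Q g ⊓ Q g' ≤ _) (t g) = rres (inf_le_right : Q g ⊓ Q g' ≤ _) (t g')
      simp only [t, s, rres_rres] at h3 ⊢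
      exact h3)
  refine ⟨N', σ, hy', hN'₁.trans hN₁W, ?_⟩
  refine (Spec (X.presheaf.stalk y)).sheaf.eq_of_locally_eq' (fun g => f y ⁻¹ᵁ Q g) _
    (fun g => homOfLE ((f y).preimage_mono (inf_le_inf_right N' (hG g)))) (fun q hq => ?_) _ _ fun g => ?_
  · obtain ⟨g, hg⟩ := Opens.mem_iSup.mp (hcov (show f y q ∈ O from hq.1))
    exact Opens.mem_iSup.mpr ⟨g, hg, hq.2⟩
  · show rres ((f y).preimage_mono (inf_le_inf_right N' (hG g))) _ = rres ((f y).preimage_mono (inf_le_inf_right N' (hG g))) _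
    rw [← app_res y (inf_le_inf_right N' (hG g)) σ, show rres (inf_le_inf_right N' (hG g)) σ = t g from hσ g, app_res, hs, rres_rres, rres_rres]

include hW hyW in
/-- An inclusion of opens over `Spec O_{X,y}` holds near `y`. -/
theorem exists_le [IsLocallyNoetherian X] {O O' : X.Opens} (hO : O ≤ W) (h : f y ⁻¹ᵁ O ≤ f y ⁻¹ᵁ O') :
    ∃ N : X.Opens, y ∈ N ∧ N ≤ W ∧ O ⊓ N ≤ O' := by
  classical
  obtain ⟨G, hG, hcov⟩ := exists_finite_cover hW hO
  have key : ∀ g : G, ∃ N : X.Opens, y ∈ N ∧ X.basicOpen g.1 ⊓ N ≤ O' := by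
    intro g
    obtain ⟨s, hs⟩ := (PrimeSpectrum.isOpen_iff (R := Γ(X, W)) (SetLike.coe (hW.fromSpec ⁻¹ᵁ O') : Set (PrimeSpectrum Γ(X, W)))).mp (hW.fromSpec ⁻¹ᵁ O').2
    let P := (hW.primeIdealOf ⟨y, hyW⟩).asIdeal
    have hmem : ∀ (q : PrimeSpectrum Γ(X, W)) (h : Γ(X, W)), hW.fromSpec q ∈ X.basicOpen h ↔ h ∉ q.asIdeal :=
      fun q h => by
      have h2 : q ∈ hW.fromSpec ⁻¹ᵁ X.basicOpen h ↔ hW.fromSpec q ∈ X.basicOpen h := Iff.rfl
      rw [hW.fromSpec_preimage_basicOpen] at h2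
      exact h2.symm
    by_cases hd : Disjoint (Ideal.span s : Set Γ(X, W)) ↑(Submonoid.powers g.1 ⊔ P.primeCompl)
    · exfalso
      obtain ⟨q, hq, hIq, hdq⟩ := Ideal.exists_le_prime_disjoint _ _ hd
      have hgq : g.1 ∉ q := fun hgq => Set.disjoint_left.mp hdq hgq
        ((le_sup_left : Submonoid.powers g.1 ≤ _) (Submonoid.mem_powers g.1))
      have hqP : q ≤ P := fun a ha => by
        by_contra haP
        exact Set.disjoint_left.mp hdq ha ((le_sup_right : P.primeCompl ≤ _) haP)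
      have hsp : (⟨q, hq⟩ : PrimeSpectrum Γ(X, W)) ⤳ hW.primeIdealOf ⟨y, hyW⟩ :=
        (PrimeSpectrum.le_iff_specializes ⟨q, hq⟩ _).mp hqP
      have hsy := hsp.map hW.fromSpec.continuous
      rw [hW.fromSpec_primeIdealOf] at hsy
      obtain ⟨z, hz⟩ := (mem_range y).mpr hsy
      have h1 : f y z ∈ O' := h (show f y z ∈ O from hz ▸ hG g ((hmem ⟨q, hq⟩ g.1).mpr hgq))
      rw [hz] at h1
      have h2 : (⟨q, hq⟩ : PrimeSpectrum Γ(X, W)) ∈ ((SetLike.coe (hW.fromSpec ⁻¹ᵁ O') : Set (PrimeSpectrum Γ(X, W))))ᶜ := by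
        rw [hs]
        exact fun a ha => hIq (Ideal.subset_span ha)
      exact h2 h1
    · obtain ⟨m, hm, hmS⟩ := Set.not_disjoint_iff.mp hd
      obtain ⟨_, ⟨n, rfl⟩, t, ht, rfl⟩ := Submonoid.mem_sup.mp hmS
      refine ⟨X.basicOpen t, ?_, fun x hx => ?_⟩
      · have := (hmem (hW.primeIdealOf ⟨y, hyW⟩) t).mpr ht
        rwa [hW.fromSpec_primeIdealOf] at this
      · obtain ⟨q, rfl⟩ : x ∈ Set.range hW.fromSpec := hW.range_fromSpec.ge (X.basicOpen_le _ hx.1)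
        by_contra hx'
        have h2 : q ∈ ((SetLike.coe (hW.fromSpec ⁻¹ᵁ O') : Set (PrimeSpectrum Γ(X, W))))ᶜ := hx'
        rw [hs, ← PrimeSpectrum.zeroLocus_span] at h2
        rcases q.isPrime.mem_or_mem (h2 hm) with h3 | h3
        · exact (hmem q g.1).mp hx.1 (q.isPrime.mem_of_pow_mem n h3)
        · exact (hmem q t).mp hx.2 h3
  choose N hyN hN using key
  obtain ⟨N', hy', hW', hN'⟩ := exists_common y N hyN W hyW
  refine ⟨N', hy', hW', fun x hx => ?_⟩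
  obtain ⟨g, hg⟩ := Opens.mem_iSup.mp (hcov hx.1)
  exact hN g ⟨hg, hN' g hx.2⟩

end Groth.Agent.ParaFLib.StalkLim
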