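import Groth.Agent.ParaFLib.OpenData
import Groth.Agent.ParaFLib.StalkLim

/-!
# Cocycles and their trivialisations near a point
-/

set_option backward.isDefEq.respectTransparency.types false
set_option maxHeartbeats 800000

noncomputable section

universe u

open CategoryTheory AlgebraicGeometry TopologicalSpace Opposite

namespace Groth.Agent.ParaFLib.Spread

open Groth.Agent.QCoh Groth.Agent.Props.GenLocus OpenData StalkLim

variable {X : Scheme.{u}}

/-- Restriction of a cocycle to a smaller open. -/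
def restrict {U : X.Opens} (D : Data U) (N : X.Opens) : Data (U ⊓ N) where
  ι := D.ι
  O i := D.O i ⊓ N
  a i j := rres (inf_le_inf inf_le_left inf_le_left) (D.a i j)
  le i := inf_le_inf_right N (D.le i)
  cover x hx := by
    obtain ⟨i, hi⟩ := Opens.mem_iSup.mp (D.cover hx.1)
    exact Opens.mem_iSup.mpr ⟨i, hi, hx.2⟩
  self i := by rw [D.self, map_one]
  coc i j k V h₁ h₂ h₃ := by
    rw [rres_rres, rres_rres, rres_rres]
    exact D.coc i j k V _ _ _

theorem rres_appLE_app {Z : Scheme.{u}} (g : Z ⟶ X) {A : X.Opens} {B V : Z.Opens} (e : B ≤ g ⁻¹ᵁ A) (h : V ≤ B)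
    (x : Γ(X, A)) : rres h (g.appLE A B e x) = rres (h.trans e) (g.app A x) := by
  rw [← Scheme.Hom.appLE_eq_app, rres_appLE, rres_appLE]

/-- Pullback of a cocycle. -/
def pull {Z : Scheme.{u}} (g : Z ⟶ X) {U : X.Opens} (D : Data U) {U' : Z.Opens} (hU : g ⁻¹ᵁ U = U') : Data U' where
  ι := D.ι
  O i := g ⁻¹ᵁ D.O i
  a i j := g.appLE (D.O i ⊓ D.O j) (g ⁻¹ᵁ D.O i ⊓ g ⁻¹ᵁ D.O j) le_rfl (D.a i j)
  le i := hU ▸ g.preimage_mono (D.le i)
  cover x hx := by
    subst hU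
    obtain ⟨i, hi⟩ := Opens.mem_iSup.mp (D.cover (show g x ∈ U from hx))
    exact Opens.mem_iSup.mpr ⟨i, hi⟩
  self i := by rw [D.self]; exact map_one _
  coc i j k V h₁ h₂ h₃ := by
    let T : X.Opens := D.O i ⊓ D.O j ⊓ D.O k
    have hV : V ≤ g ⁻¹ᵁ T := le_inf (h₁) (h₃.trans inf_le_right)
    have := congrArg (g.appLE T V hV)
      (D.coc i j k T inf_le_left (inf_le_inf_right _ inf_le_right) (inf_le_inf_right _ inf_le_left))
    rw [map_mul, appLE_rres, appLE_rres, appLE_rres] at this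
    rw [rres_appLE, rres_appLE, rres_appLE]
    exact this

variable [IsLocallyNoetherian X] (y : X) {W : X.Opens} (hW : IsAffineOpen W) (hyW : y ∈ W)

include hW hyW in
theorem eq_one_near {O : X.Opens} (hO : O ≤ W) (a : Γ(X, O)) (h : (f y).app O a = 1) :
    ∃ N : X.Opens, y ∈ N ∧ N ≤ W ∧ rres (inf_le_left : O ⊓ N ≤ O) a = 1 := by
  obtain ⟨N, hy, hN, h0⟩ := exists_zero y hW hyW hO (a - 1) (by rw [map_sub, h, map_one, sub_self])
  exact ⟨N, hy, hN, by rwa [map_sub, map_one, sub_eq_zero] at h0⟩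

include hW hyW in
theorem eq_near {O : X.Opens} (hO : O ≤ W) (a b : Γ(X, O)) (h : (f y).app O a = (f y).app O b) :
    ∃ N : X.Opens, y ∈ N ∧ N ≤ W ∧ rres (inf_le_left : O ⊓ N ≤ O) a = rres (inf_le_left : O ⊓ N ≤ O) b := by
  obtain ⟨N, hy, hN, h0⟩ := exists_zero y hW hyW hO (a - b) (by rw [map_sub, h, sub_self])
  exact ⟨N, hy, hN, by rwa [map_sub, sub_eq_zero] at h0⟩

include hW hyW in
/-- A coboundary over `Spec O_{X,y}` is a coboundary near `y`. -/
theorem exists_triv {U : X.Opens} (hUW : U ≤ W) (D : Data U) [Finite D.ι]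
    {P : (Spec (X.presheaf.stalk y)).Opens} (hP : f y ⁻¹ᵁ U = P) (h : Triv (pull (f y) D hP)) :
    ∃ N : X.Opens, y ∈ N ∧ N ≤ W ∧ Triv (restrict D N) := by
  obtain ⟨c₀, hu₀, hc₀⟩ := h
  let c : ∀ i : D.ι, Γ(Spec (X.presheaf.stalk y), f y ⁻¹ᵁ D.O i) := c₀
  have hu : ∀ i, ∃ d, d * c i = 1 := fun i => (hu₀ i).exists_left_inv
  choose d hd using hu
  have hc : ∀ (i j : D.ι) (V : (Spec (X.presheaf.stalk y)).Opens) (hV : V ≤ f y ⁻¹ᵁ (D.O i ⊓ D.O j)),
      rres (hV.trans ((f y).preimage_mono inf_le_left)) (c i) =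
        rres (hV.trans ((f y).preimage_mono inf_le_right)) (c j) * rres hV ((f y).app _ (D.a i j)) := fun i j V hV => by
    have h1 := congrArg (rres (show V ≤ (pull (f y) D hP).O i ⊓ (pull (f y) D hP).O j from hV)) (hc₀ i j)
    simp only [pull, map_mul, rres_rres, rres_appLE_app] at h1
    exact h1
  have hOW : ∀ i, D.O i ≤ W := fun i => (D.le i).trans hUW
  choose N₁ c₁ hy₁ hN₁ hc₁ using fun i => exists_lift y hW hyW (hOW i) (c i)
  choose N₂ d₂ hy₂ hN₂ hd₂ using fun i => exists_lift y hW hyW (hOW i) (d i)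
  obtain ⟨N, hy, hNW, hN⟩ := exists_common y (fun p : D.ι ⊕ D.ι => Sum.elim N₁ N₂ p)
    (fun p => by cases p <;> simp [hy₁, hy₂]) W hyW
  have hNl : ∀ i, N ≤ N₁ i := fun i => hN (.inl i)
  have hNr : ∀ i, N ≤ N₂ i := fun i => hN (.inr i)
  let c' : ∀ i, Γ(X, D.O i ⊓ N) := fun i => rres (inf_le_inf_left _ (hNl i)) (c₁ i)
  let d' : ∀ i, Γ(X, D.O i ⊓ N) := fun i => rres (inf_le_inf_left _ (hNr i)) (d₂ i)
  have hc' : ∀ i, (f y).app _ (c' i) = rres ((f y).preimage_mono inf_le_left) (c i) := fun i => by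
    show (f y).app _ (rres (inf_le_inf_left _ (hNl i)) (c₁ i)) = _
    rw [StalkLim.app_res, hc₁, rres_rres]
  have hd' : ∀ i, (f y).app _ (d' i) = rres ((f y).preimage_mono inf_le_left) (d i) := fun i => by
    show (f y).app _ (rres (inf_le_inf_left _ (hNr i)) (d₂ i)) = _
    rw [StalkLim.app_res, hd₂, rres_rres]
  choose M hyM hMW hM using fun i => eq_one_near y hW hyW ((inf_le_left : D.O i ⊓ N ≤ _).trans (hOW i)) (d' i * c' i)
    (by rw [map_mul, hc', hd', ← map_mul, hd, map_one])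
  choose R hyR hRW hR using fun q : D.ι × D.ι => eq_near y hW hyW
    ((inf_le_left.trans inf_le_left : (D.O q.1 ⊓ N) ⊓ (D.O q.2 ⊓ N) ≤ _).trans (hOW q.1))
    (rres inf_le_left (c' q.1))
    (rres inf_le_right (c' q.2) * rres (inf_le_inf inf_le_left inf_le_left) (D.a q.1 q.2)) (by
      rw [map_mul, StalkLim.app_res (O' := D.O q.1 ⊓ N), StalkLim.app_res (O' := D.O q.2 ⊓ N),
        StalkLim.app_res (O' := D.O q.1 ⊓ D.O q.2), hc', hc', rres_rres, rres_rres]
      exact hc q.1 q.2 _ ((f y).preimage_mono (inf_le_inf inf_le_left inf_le_left)))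
  obtain ⟨N', hy', hN'N, hN'⟩ := exists_common y (fun p : D.ι ⊕ D.ι × D.ι => Sum.elim M R p)
    (fun p => by cases p <;> simp [hyM, hyR]) N hy
  refine ⟨N', hy', hN'N.trans hNW, fun i => rres (inf_le_inf_left _ hN'N) (c' i), fun i => ?_, fun i j => ?_⟩
  · refine IsUnit.of_mul_eq_one_right (rres (inf_le_inf_left _ hN'N) (d' i)) ?_
    have h1 := congrArg (rres (show D.O i ⊓ N' ≤ (D.O i ⊓ N) ⊓ M i from
      le_inf (inf_le_inf_left _ hN'N) (inf_le_right.trans (hN' (.inl i))))) (hM i)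
    rw [map_one, rres_rres, map_mul] at h1
    exact h1
  · have h1 := congrArg (rres (show (D.O i ⊓ N') ⊓ (D.O j ⊓ N') ≤ ((D.O i ⊓ N) ⊓ (D.O j ⊓ N)) ⊓ R (i, j) from
      le_inf (inf_le_inf (inf_le_inf_left _ hN'N) (inf_le_inf_left _ hN'N))
        ((inf_le_left.trans inf_le_right).trans (hN' (.inr (i, j)))))) (hR (i, j))
    simp only [map_mul, rres_rres] at h1
    exact (rres_rres (inf_le_inf_left _ hN'N) _ (c' i)).trans
      (h1.trans (congrArg₂ (· * ·) (rres_rres (inf_le_inf_left _ hN'N) _ (c' j)).symm rfl))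

end Groth.Agent.ParaFLib.Spread
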