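import Groth.Agent.LFFrame.Basic
import Groth.Agent.PicCl.Basic
import Groth.Prelude.Def_ParaF

/-!
# Restriction of invertible modules along open immersions

`ResBij j`: restriction of functions from every open `V` of the target to its trace on the source is
bijective.  Then restriction is fully faithful on invertible modules, and conversely.
-/

set_option backward.isDefEq.respectTransparency.types false

noncomputable section

universe u

open CategoryTheory AlgebraicGeometry TopologicalSpace Opposite

namespace Groth.Agent.ParaFLib

variable {X Y : Scheme.{u}} (j : X ⟶ Y) [IsOpenImmersion j]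

/-- Restriction of functions from every open of the target to its trace on the source is bijective. -/
def ResBij : Prop :=
  ∀ V : Y.Opens, Function.Bijective (Y.presheaf.map (homOfLE (j.image_preimage_le V)).op)

theorem res_congr {Z : Scheme.{u}} {A B B' : Z.Opens} (e : B = B') (h : B ≤ A) (h' : B' ≤ A) :
    Function.Bijective (Z.presheaf.map (homOfLE h).op) ↔ Function.Bijective (Z.presheaf.map (homOfLE h').op) := by
  subst e; rfl

/-- The unit `M ⟶ j_* j^* M` is an isomorphism for modules with frames. -/
theorem isIso_unit (hj : ResBij j) (M : Y.Modules)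
    (hM : ∀ y : Y, ∃ (U : Y.Opens) (n : ℕ) (e : Fin n → Γ(M, U)), y ∈ U ∧ LFFrame.IsFrame M U e) :
    IsIso ((Scheme.Modules.restrictAdjunction j).unit.app M) := by
  refine LFFrame.isIso_of_locally_bijective _ fun y => ?_
  obtain ⟨U, n, e, hy, he⟩ := hM y
  refine ⟨U, hy, fun V hV => ?_⟩
  rw [Scheme.Modules.restrictAdjunction_unit_app_app]
  let ρ := Y.presheaf.map (homOfLE (j.image_preimage_le V)).op
  have h2 : Function.Bijective (fun a : Fin n → Γ(Y, V) => fun i => ρ (a i)) :=
    Function.Bijective.piMap fun _ => hj V
  refine (Function.Bijective.of_comp_iff _ (he V hV)).mp ?_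
  have h3 : (M.presheaf.map (homOfLE (j.image_preimage_le V)).op) ∘ LFFrame.comb M e hV =
      LFFrame.comb M e ((j.image_preimage_le V).trans hV) ∘ (fun a => fun i => ρ (a i)) :=
    funext fun a => LFFrame.res_comb M e hV (j.image_preimage_le V) a
  refine h3 ▸ ((he _ _).comp h2)

theorem isIso_unit_of_isInvertible (hj : ResBij j) (L : Y.Modules) (hL : PicF.IsInvertible L) :
    IsIso ((Scheme.Modules.restrictAdjunction j).unit.app L) :=
  isIso_unit j hj L (LFFrame.exists_isFrame_of_isInvertible hL)

/-- Restriction is bijective on morphisms into a module on which the unit is bijective. -/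
theorem bijective_map_of_isIso_unit (L L' : Y.Modules)
    [IsIso ((Scheme.Modules.restrictAdjunction j).unit.app L')] :
    Function.Bijective (fun φ : L ⟶ L' => (Scheme.Modules.restrictFunctor j).map φ) := by
  let adj := Scheme.Modules.restrictAdjunction j
  let η := asIso (adj.unit.app L')
  have h : (fun φ : L ⟶ L' => (Scheme.Modules.restrictFunctor j).map φ) =
      (adj.homEquiv L ((Scheme.Modules.restrictFunctor j).obj L')).symm ∘ (fun φ => φ ≫ η.hom) := by
    funext φ
    refine ((adj.homEquiv _ _).eq_symm_apply).mpr ?_
    rw [Adjunction.homEquiv_unit]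
    exact adj.unit_naturality φ
  rw [h]
  exact (adj.homEquiv _ _).symm.bijective.comp η.homToEquiv.bijective

theorem bijective_map (hj : ResBij j) (L L' : Y.Modules) (hL' : PicF.IsInvertible L') :
    Function.Bijective (fun φ : L ⟶ L' => (Scheme.Modules.restrictFunctor j).map φ) :=
  have := isIso_unit_of_isInvertible j hj L' hL'
  bijective_map_of_isIso_unit j L L'

theorem isInvertible_structureModule (Z : Scheme.{u}) : PicF.IsInvertible (Coh.structureModule Z) :=
  fun z => ⟨⊤, trivial, ⟨Scheme.Modules.restrictUnitIso (⊤ : Z.Opens).ι⟩⟩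

theorem isInvertible_restrict {L : Y.Modules} (hL : PicF.IsInvertible L) :
    PicF.IsInvertible (L.restrict j) :=
  PicCl.isInvertible_of_iso ((Scheme.Modules.restrictFunctorIsoPullback j).app L).symm
    (PicCl.isInvertible_pullback j hL)

/-- An extension of an invertible module is its direct image. -/
theorem nonempty_iso_pushforward (hj : ResBij j) {L : Y.Modules} (hL : PicF.IsInvertible L)
    {L₀ : X.Modules} (e : L.restrict j ≅ L₀) : Nonempty (L ≅ (Scheme.Modules.pushforward j).obj L₀) :=
  have := isIso_unit_of_isInvertible j hj L hL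
  ⟨asIso ((Scheme.Modules.restrictAdjunction j).unit.app L) ≪≫
    (Scheme.Modules.pushforward j).mapIso e⟩

/-- The restriction of the direct image. -/
def restrictPushforwardIso (L₀ : X.Modules) : ((Scheme.Modules.pushforward j).obj L₀).restrict j ≅ L₀ :=
  asIso ((Scheme.Modules.restrictAdjunction j).counit.app L₀)

/-- Evaluation at `1` of morphisms out of the structure sheaf is bijective. -/
theorem bijective_evalOne (M : Y.Modules) :
    Function.Bijective (fun φ : Coh.structureModule Y ⟶ M => φ.app ⊤ (1 : Γ(Y, ⊤))) := by
  constructor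
  · intro φ ψ h
    refine Scheme.Modules.hom_ext _ _ fun U => ?_
    ext a
    have key : ∀ θ : Coh.structureModule Y ⟶ M, θ.app U a =
        (show Γ(Y, U) from a) • M.presheaf.map (homOfLE (le_top : U ≤ ⊤)).op (θ.app ⊤ (1 : Γ(Y, ⊤))) := by
      intro θ
      have h1 := NatTrans.naturality_apply θ.mapPresheaf (homOfLE (le_top : U ≤ ⊤)).op (1 : Γ(Y, ⊤))
      have h2 : θ.app U (1 : Γ(Y, U)) =
          M.presheaf.map (homOfLE (le_top : U ≤ ⊤)).op (θ.app ⊤ (1 : Γ(Y, ⊤))) := by
        refine Eq.trans ?_ h1
        exact congrArg (θ.app U) (map_one (Y.presheaf.map (homOfLE (le_top : U ≤ ⊤)).op).hom).symm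
      rw [← h2]
      refine Eq.trans ?_ (Scheme.Modules.Hom.app_smul θ (show Γ(Y, U) from a) (1 : Γ(Y, U)))
      exact congrArg (θ.app U) (mul_one (show Γ(Y, U) from a)).symm
    exact (key φ).trans ((congrArg (fun t => _ • M.presheaf.map _ t) h).trans (key ψ).symm)
  · intro s
    refine ⟨⟨PresheafOfModules.homMk
      { app := fun V => AddCommGrpCat.ofHom (show Γ(Y, V.unop) →+ Γ(M, V.unop) from
          AddMonoidHom.mk' (fun a => a • M.presheaf.map (homOfLE (le_top : V.unop ≤ ⊤)).op s)
          fun a b => add_smul a b _)
        naturality := fun {V W} i => by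
          ext a
          let a' : Γ(Y, V.unop) := a
          change Y.presheaf.map (homOfLE i.unop.le).op a' • M.presheaf.map (homOfLE (le_top : W.unop ≤ ⊤)).op s =
            M.presheaf.map (homOfLE i.unop.le).op (a' • M.presheaf.map (homOfLE (le_top : V.unop ≤ ⊤)).op s)
          rw [Scheme.Modules.map_smul, LFFrame.res_res] }
      (fun V r a => by
        let r' : Γ(Y, V.unop) := r
        let a' : Γ(Y, V.unop) := a
        exact mul_smul r' a' (M.presheaf.map (homOfLE (le_top : V.unop ≤ ⊤)).op s))⟩, ?_⟩
    change (1 : Γ(Y, ⊤)) • M.presheaf.map (homOfLE (le_top : (⊤ : Y.Opens) ≤ ⊤)).op s = s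
    rw [one_smul]
    exact (congrArg (fun t => M.presheaf.map t s) (Subsingleton.elim _ (𝟙 _))).trans
      (by rw [CategoryTheory.Functor.map_id]; rfl)

/-- Fully faithfulness on invertible modules gives bijectivity on global functions. -/
theorem bijective_top_of_bijective_map
    (h : ∀ L L' : Y.Modules, PicF.IsInvertible L → PicF.IsInvertible L' →
      Function.Bijective (fun φ : L ⟶ L' => (Scheme.Modules.restrictFunctor j).map φ)) :
    Function.Bijective (Y.presheaf.map (homOfLE (j.image_preimage_le ⊤)).op) := by
  let adj := Scheme.Modules.restrictAdjunction j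
  let O := Coh.structureModule Y
  have h1 : Function.Bijective (fun φ : O ⟶ O => φ ≫ adj.unit.app O) := by
    have hc : (fun φ : O ⟶ O => φ ≫ adj.unit.app O) =
        (adj.homEquiv O ((Scheme.Modules.restrictFunctor j).obj O)) ∘
          (fun φ : O ⟶ O => (Scheme.Modules.restrictFunctor j).map φ) := by
      funext φ
      rw [Function.comp_apply, Adjunction.homEquiv_unit]
      exact (adj.unit_naturality φ).symm
    rw [hc]
    exact (adj.homEquiv _ _).bijective.comp
      (h O O (isInvertible_structureModule Y) (isInvertible_structureModule Y))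
  have h2 := (bijective_evalOne ((Scheme.Modules.pushforward j).obj ((Scheme.Modules.restrictFunctor j).obj O))).comp h1
  exact (Function.Bijective.of_comp_iff _ (bijective_evalOne O)).mp h2

end Groth.Agent.ParaFLib
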