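import Groth.Agent.ParaFLib.Pairs
import Groth.Agent.LFDesc.Trivial
import Mathlib.AlgebraicGeometry.Morphisms.Flat
import Mathlib.RingTheory.Flat.FaithfullyFlat.Algebra

/-!
# Parafactoriality descends along quasi-compact faithfully flat morphisms
-/

set_option autoImplicit false
set_option linter.style.haveILetI false
set_option backward.isDefEq.respectTransparency.types false
set_option maxHeartbeats 800000

universe u

open CategoryTheory CategoryTheory.Limits AlgebraicGeometry TopologicalSpace Opposite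
open scoped TensorProduct

noncomputable section

namespace Groth.Agent.ParaFLib.Descent

/-- A module killed by a jointly surjective family of flat algebras is zero. -/
theorem subsingleton_of_tensor {A : Type u} [CommRing A] {ι : Type*} (B : ι → Type u) [∀ i, CommRing (B i)]
    [∀ i, Algebra A (B i)] [∀ i, Module.Flat A (B i)]
    (hs : ∀ P : PrimeSpectrum A, ∃ (i : ι) (Q : PrimeSpectrum (B i)), PrimeSpectrum.comap (algebraMap A (B i)) Q = P)
    (M : Type u) [AddCommGroup M] [Module A M] (h : ∀ i, Subsingleton (B i ⊗[A] M)) : Subsingleton M := by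
  refine subsingleton_of_forall_eq 0 fun x => by_contra fun hx => ?_
  let I : Ideal A := Ideal.torsionOf A M x
  obtain ⟨m, hm, hle⟩ := Ideal.exists_le_maximal I
    (fun e => hx (by
      have : (1 : A) ∈ Ideal.torsionOf A M x := (show (1 : A) ∈ I from e ▸ Submodule.mem_top)
      simpa using this))
  obtain ⟨i, Q, hQ⟩ := hs ⟨m, hm.isPrime⟩
  haveI := h i
  let ψ : (A ⧸ I) →ₗ[A] M :=
    (Submodule.span A {x}).subtype.comp (Ideal.quotTorsionOfEquivSpanSingleton A M x).toLinearMap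
  have h1 : Function.Injective (LinearMap.lTensor (B i) ψ) :=
    Module.Flat.lTensor_preserves_injective_linearMap _
      (Subtype.val_injective.comp (Ideal.quotTorsionOfEquivSpanSingleton A M x).injective)
  haveI := h1.subsingleton
  have h2 : (1 : B i) ∈ I.map (algebraMap A (B i)) := by
    rw [← Ideal.Quotient.eq_zero_iff_mem]
    exact (Algebra.TensorProduct.quotIdealMapEquivTensorQuot (B i) I).injective (Subsingleton.elim _ _)
  have h3 : I.map (algebraMap A (B i)) ≤ Q.asIdeal :=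
    Ideal.map_le_iff_le_comap.mpr (hle.trans (le_of_eq (congrArg PrimeSpectrum.asIdeal hQ).symm))
  exact Q.isPrime.ne_top (Q.asIdeal.eq_top_iff_one.mpr (h3 h2))

/-- Bijectivity descends along a jointly surjective family of flat algebras. -/
theorem bijective_of_lTensor {A : Type u} [CommRing A] {ι : Type*} (B : ι → Type u) [∀ i, CommRing (B i)]
    [∀ i, Algebra A (B i)] [∀ i, Module.Flat A (B i)]
    (hs : ∀ P : PrimeSpectrum A, ∃ (i : ι) (Q : PrimeSpectrum (B i)), PrimeSpectrum.comap (algebraMap A (B i)) Q = P)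
    {M N : Type u} [AddCommGroup M] [Module A M] [AddCommGroup N] [Module A N] (φ : M →ₗ[A] N)
    (h : ∀ i, Function.Bijective (φ.lTensor (B i))) : Function.Bijective φ := by
  have hk : Subsingleton φ.ker := subsingleton_of_tensor B hs _ fun i => by
    refine subsingleton_of_forall_eq 0 fun z => ?_
    apply Module.Flat.lTensor_preserves_injective_linearMap (M := B i) φ.ker.subtype Subtype.val_injective
    rw [map_zero]
    apply (h i).1
    rw [map_zero, ← LinearMap.comp_apply, ← LinearMap.lTensor_comp, LinearMap.comp_ker_subtype,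
      LinearMap.lTensor_zero, LinearMap.zero_apply]
  have hq : Subsingleton (N ⧸ LinearMap.range φ) := subsingleton_of_tensor B hs _ fun i => by
    refine subsingleton_of_forall_eq 0 fun z => ?_
    obtain ⟨w, rfl⟩ := LinearMap.lTensor_surjective (B i) (LinearMap.range φ).mkQ_surjective z
    obtain ⟨v, rfl⟩ := (h i).2 w
    rw [← LinearMap.comp_apply, ← LinearMap.lTensor_comp, LinearMap.range_mkQ_comp, LinearMap.lTensor_zero,
      LinearMap.zero_apply]
  refine ⟨LinearMap.ker_eq_bot.mp (Submodule.subsingleton_iff_eq_bot.mp hk), LinearMap.range_eq_top.mp ?_⟩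
  exact Submodule.Quotient.subsingleton_iff.mp hq

variable {X X' : Scheme.{u}} (f : X' ⟶ X) [QuasiCompact f] [Flat f] [Surjective f] {U : X.Opens}

theorem bijective_app_ι {Z : Scheme.{u}} (O V : Z.Opens) :
    Function.Bijective (Z.presheaf.map (homOfLE (inf_le_left : V ⊓ O ≤ V)).op) ↔ Function.Bijective (O.ι.app V) := by
  rw [Scheme.Opens.ι_app]
  refine res_congr₂ rfl ?_ inf_le_left _
  ext z
  exact ⟨fun ⟨h1, h2⟩ => ⟨⟨z, h2⟩, h1, rfl⟩, fun ⟨w, hw, e⟩ => e ▸ ⟨hw, w.2⟩⟩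

include f in
omit [Surjective f] in
theorem exists_affines {V : X.Opens} (hV : IsAffineOpen V) :
    ∃ s : Set X'.affineOpens, s.Finite ∧ (f ⁻¹ᵁ V : Set X') = ⋃ W ∈ s, (W.1 : Set X') :=
  isCompact_and_isOpen_iff_finite_and_eq_biUnion_affineOpens.mp
    ⟨f.isCompact_preimage hV.isCompact, (f ⁻¹ᵁ V).2⟩

variable (hc : QuasiCompact U.ι) (hres : ResBijOn (f ⁻¹ᵁ U))

include hc hres in
theorem bijective_app_affine {V : X.Opens} (hV : IsAffineOpen V) : Function.Bijective (U.ι.app V) := by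
  obtain ⟨s, hs, hcov⟩ := exists_affines f hV
  let H := isPullback_morphismRestrict f U
  let UX : (U : Scheme.{u}).Opens := U.ι ⁻¹ᵁ V
  letI : Algebra Γ(X, V) Γ((U : Scheme.{u}), UX) := (U.ι.app V).hom.toAlgebra
  have hle : ∀ W : s, W.1.1 ≤ f ⁻¹ᵁ V := fun W z hz => by
    show z ∈ ((f ⁻¹ᵁ V : X'.Opens) : Set X')
    rw [hcov]
    exact Set.mem_biUnion W.2 hz
  let B : s → Type u := fun W => Γ(X', W.1.1)
  letI : ∀ W : s, Algebra Γ(X, V) (B W) := fun W => (f.appLE V W.1.1 (hle W)).hom.toAlgebra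
  haveI : ∀ W : s, Module.Flat Γ(X, V) (B W) := fun W =>
    RingHom.flat_algebraMap_iff.1 (f.flat_appLE hV W.1.2 (hle W))
  have hsp : ∀ P : PrimeSpectrum Γ(X, V), ∃ (W : s) (Q : PrimeSpectrum (B W)),
      PrimeSpectrum.comap (algebraMap Γ(X, V) (B W)) Q = P := fun P => by
    obtain ⟨z, hz⟩ := f.surjective (hV.fromSpec P)
    have hzV : z ∈ ((f ⁻¹ᵁ V : X'.Opens) : Set X') := by
      show f z ∈ V
      rw [hz]
      exact hV.range_fromSpec.le ⟨P, rfl⟩
    rw [hcov] at hzV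
    obtain ⟨W, hW, hzW⟩ := Set.mem_iUnion₂.mp hzV
    refine ⟨⟨W, hW⟩, W.2.primeIdealOf ⟨z, hzW⟩, hV.fromSpec.isOpenEmbedding.injective ?_⟩
    have hW' : IsAffineOpen W.1 := W.2
    exact (congrArg (fun m : Spec Γ(X', W.1) ⟶ X => m (hW'.primeIdealOf ⟨z, hzW⟩))
      (hV.SpecMap_appLE_fromSpec f hW' (hle ⟨W, hW⟩))).trans
      ((congrArg f (hW'.fromSpec_primeIdealOf ⟨z, hzW⟩)).trans hz)
  change Function.Bijective (Algebra.linearMap Γ(X, V) Γ((U : Scheme.{u}), UX))
  refine bijective_of_lTensor B hsp _ fun W => ?_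
  have hT : W.1.1 ≤ f ⁻¹ᵁ V := hle W
  let UY : (f ⁻¹ᵁ U : Scheme.{u}).Opens := (f ⁻¹ᵁ U).ι ⁻¹ᵁ W.1.1
  have hUY : UY = (f ∣_ U) ⁻¹ᵁ UX ⊓ (f ⁻¹ᵁ U).ι ⁻¹ᵁ W.1.1 := by
    refine le_antisymm (le_inf (fun z hz => ?_) le_rfl) inf_le_right
    show U.ι ((f ∣_ U) z) ∈ V
    rw [← Scheme.Hom.comp_apply, morphismRestrict_ι, Scheme.Hom.comp_apply]
    exact hT hz
  have hqs : IsQuasiSeparated (α := (U : Scheme.{u})) UX := by
    haveI : IsAffine _ := hV
    exact (isQuasiSeparated_iff_quasiSeparatedSpace _ UX.2).2 (quasiSeparatedSpace_of_quasiSeparated (U.ι ∣_ V))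
  have hpo := (isIso_pushoutSection_iff H hT (le_refl UX) hUY).1
    (isIso_pushoutSection_of_isQuasiSeparated_of_flat_right H hT _ hUY hV W.1.2
      (U.ι.isCompact_preimage hV.isCompact) hqs)
  have hb : Function.Bijective ((f ⁻¹ᵁ U).ι.appLE W.1.1 UY le_rfl) := by
    rw [Scheme.Hom.appLE_eq_app]
    exact (bijective_app_ι _ _).mp (hres W.1.1)
  letI : Algebra (B W) Γ((f ⁻¹ᵁ U : Scheme.{u}), UY) := ((f ⁻¹ᵁ U).ι.appLE W.1.1 UY le_rfl).hom.toAlgebra
  letI : Algebra Γ((U : Scheme.{u}), UX) Γ((f ⁻¹ᵁ U : Scheme.{u}), UY) :=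
    ((f ∣_ U).appLE UX UY (hUY.le.trans inf_le_left)).hom.toAlgebra
  letI : Algebra Γ(X, V) Γ((f ⁻¹ᵁ U : Scheme.{u}), UY) :=
    (f.appLE V W.1.1 hT ≫ (f ⁻¹ᵁ U).ι.appLE W.1.1 UY le_rfl).hom.toAlgebra
  haveI : IsScalarTower Γ(X, V) (B W) Γ((f ⁻¹ᵁ U : Scheme.{u}), UY) := IsScalarTower.of_algebraMap_eq fun _ => rfl
  have hw : U.ι.app V ≫ (f ∣_ U).appLE UX UY (hUY.le.trans inf_le_left) =
      f.appLE V W.1.1 hT ≫ (f ⁻¹ᵁ U).ι.appLE W.1.1 UY le_rfl := by
    rw [Scheme.Hom.app_eq_appLE]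
    exact hpo.w
  haveI : IsScalarTower Γ(X, V) Γ((U : Scheme.{u}), UX) Γ((f ⁻¹ᵁ U : Scheme.{u}), UY) :=
    IsScalarTower.of_algebraMap_eq fun x => (ConcreteCategory.congr_hom hw x).symm
  have hpo' : IsPushout (U.ι.app V) (f.appLE V W.1.1 hT) ((f ∣_ U).appLE UX UY (hUY.le.trans inf_le_left))
      ((f ⁻¹ᵁ U).ι.appLE W.1.1 UY le_rfl) := by
    rw [Scheme.Hom.app_eq_appLE]
    exact hpo
  haveI : Algebra.IsPushout Γ(X, V) (B W) Γ((U : Scheme.{u}), UX) Γ((f ⁻¹ᵁ U : Scheme.{u}), UY) :=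
    CommRingCat.isPushout_iff_isPushout.1 hpo'.flip
  let e : B W ⊗[Γ(X, V)] Γ((U : Scheme.{u}), UX) ≃+* Γ((f ⁻¹ᵁ U : Scheme.{u}), UY) :=
    (Algebra.IsPushout.equiv Γ(X, V) (B W) Γ((U : Scheme.{u}), UX) Γ((f ⁻¹ᵁ U : Scheme.{u}), UY)).toRingEquiv
  refine (Function.Bijective.of_comp_iff' e.bijective _).mp ?_
  have h1 : e ∘ (Algebra.linearMap Γ(X, V) Γ((U : Scheme.{u}), UX)).lTensor (B W) =
      (algebraMap (B W) Γ((f ⁻¹ᵁ U : Scheme.{u}), UY)) ∘ (TensorProduct.rid Γ(X, V) (B W)) := by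
    funext z
    induction z using TensorProduct.induction_on with
    | zero => simp
    | tmul b a =>
      simp only [Function.comp_apply, LinearMap.lTensor_tmul, Algebra.linearMap_apply, TensorProduct.rid_tmul]
      show Algebra.IsPushout.equiv Γ(X, V) (B W) Γ((U : Scheme.{u}), UX) Γ((f ⁻¹ᵁ U : Scheme.{u}), UY) _ = _
      rw [Algebra.IsPushout.equiv_tmul, Algebra.smul_def, ← IsScalarTower.algebraMap_apply,
        IsScalarTower.algebraMap_apply Γ(X, V) (B W), map_mul, mul_comm]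
    | add a b ha hb =>
      simp only [Function.comp_apply, map_add] at ha hb ⊢
      rw [ha, hb]
  rw [h1]
  exact hb.comp (LinearEquiv.bijective _)

include hc hres in
theorem resBijOn : ResBijOn U := by
  have hB : ∀ V : X.Opens, IsAffineOpen V → Function.Bijective (X.presheaf.map (homOfLE (inf_le_left : V ⊓ U ≤ V)).op) :=
    fun V hV => (bijective_app_ι U V).mpr (bijective_app_affine f hc hres hV)
  intro V
  choose W hW hxW hWV using fun x : V => exists_isAffineOpen_mem_and_subset (show (x : X) ∈ V from x.2)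
  have hcov : V ≤ ⨆ x : V, W x := fun z hz => Opens.mem_iSup.mpr ⟨⟨z, hz⟩, hxW _⟩
  have hinj : ∀ (O : X.Opens) (a : Γ(X, O)), QCoh.rres (inf_le_left : O ⊓ U ≤ O) a = 0 → a = 0 := by
    intro O a ha
    choose T hT hxT hTO using fun x : O => exists_isAffineOpen_mem_and_subset (show (x : X) ∈ O from x.2)
    refine X.sheaf.eq_of_locally_eq' T O (fun x => homOfLE (hTO x))
      (fun z hz => Opens.mem_iSup.mpr ⟨⟨z, hz⟩, hxT _⟩) a 0 fun x => (hB _ (hT x)).1 ?_
    show QCoh.rres inf_le_left (QCoh.rres (hTO x) a) = QCoh.rres inf_le_left (QCoh.rres (hTO x) 0)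
    rw [map_zero, map_zero, QCoh.rres_rres]
    have h1 := congrArg (QCoh.rres (inf_le_inf_right U (hTO x))) ha
    rw [map_zero, QCoh.rres_rres] at h1
    exact h1
  refine ⟨(injective_iff_map_eq_zero (X.presheaf.map (homOfLE (inf_le_left : V ⊓ U ≤ V)).op).hom).mpr (hinj V), fun b => ?_⟩
  choose a ha using fun x : V => (hB _ (hW x)).2 (QCoh.rres (inf_le_inf_right U (hWV x)) b)
  obtain ⟨s, hs, -⟩ := X.sheaf.existsUnique_gluing' W V (fun x => homOfLE (hWV x)) hcov a fun x y => by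
    show QCoh.rres (inf_le_left : W x ⊓ W y ≤ _) (a x) = QCoh.rres (inf_le_right : W x ⊓ W y ≤ _) (a y)
    rw [← sub_eq_zero]
    apply hinj
    have h1 := congrArg (QCoh.rres (inf_le_inf_right U inf_le_left : W x ⊓ W y ⊓ U ≤ W x ⊓ U)) (ha x)
    have h2 := congrArg (QCoh.rres (inf_le_inf_right U inf_le_right : W x ⊓ W y ⊓ U ≤ W y ⊓ U)) (ha y)
    rw [QCoh.rres_rres] at h1 h2
    rw [map_sub, QCoh.rres_rres, QCoh.rres_rres]
    exact sub_eq_zero.mpr ((h1.trans (QCoh.rres_rres _ _ _)).trans (h2.trans (QCoh.rres_rres _ _ _)).symm)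
  refine ⟨s, X.sheaf.eq_of_locally_eq' (fun x => W x ⊓ U) (V ⊓ U) (fun x => homOfLE (inf_le_inf_right U (hWV x)))
    (fun z hz => Opens.mem_iSup.mpr ⟨⟨z, hz.1⟩, hxW _, hz.2⟩) _ _ fun x => ?_⟩
  show QCoh.rres (inf_le_inf_right U (hWV x)) (QCoh.rres inf_le_left s) = QCoh.rres (inf_le_inf_right U (hWV x)) b
  rw [← ha x, ← show QCoh.rres (hWV x) s = a x from hs x]
  exact (QCoh.rres_rres _ _ _).trans (QCoh.rres_rres _ _ _).symm

include hc hres in
theorem ext (hext : ∀ V' : X'.Opens, Ext (X'.homOfLE (inf_le_left : V' ⊓ f ⁻¹ᵁ U ≤ V'))) (V : X.Opens) :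
    Ext (X.homOfLE (inf_le_left : V ⊓ U ≤ V)) := by
  intro L hL
  let Q : X.Opens := V ⊓ U
  let k : (Q : Scheme.{u}) ⟶ (V : Scheme.{u}) := X.homOfLE inf_le_left
  let k' : ((f ⁻¹ᵁ Q : X'.Opens) : Scheme.{u}) ⟶ ((f ⁻¹ᵁ V : X'.Opens) : Scheme.{u}) :=
    X'.homOfLE (f.preimage_mono inf_le_left)
  have hkV : k ≫ V.ι = Q.ι := X.homOfLE_ι _
  have hk'V : k' ≫ (f ⁻¹ᵁ V).ι = (f ⁻¹ᵁ Q).ι := X'.homOfLE_ι _
  have H : IsPullback (f ∣_ Q) k' k (f ∣_ V) := by
    refine IsPullback.of_bot ?_ ?_ (isPullback_morphismRestrict f V)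
    · rw [hkV, hk'V]
      exact isPullback_morphismRestrict f Q
    · rw [← cancel_mono V.ι, Category.assoc, Category.assoc, hkV, morphismRestrict_ι, morphismRestrict_ι,
        ← Category.assoc, hk'V]
  haveI := hc
  haveI : QuasiCompact k := by
    have hk : IsPullback (X.homOfLE (inf_le_right : V ⊓ U ≤ U)) k U.ι V.ι :=
      IsOpenImmersion.isPullback _ _ _ _ (by simp [k, Q]) (by
        rw [Scheme.opensRange_homOfLE]
        ext z
        simp [Q])
    exact MorphismProperty.of_isPullback hk hc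
  haveI : Flat (f ∣_ V) := MorphismProperty.of_isPullback (isPullback_morphismRestrict f V).flip ‹Flat f›
  haveI : Surjective (f ∣_ V) := MorphismProperty.of_isPullback (isPullback_morphismRestrict f V).flip ‹Surjective f›
  haveI : QuasiCompact (f ∣_ V) := MorphismProperty.of_isPullback (isPullback_morphismRestrict f V).flip ‹QuasiCompact f›
  have hb := resBij_homOfLE (resBijOn f hc hres) V
  have hf : ∀ O : (V : Scheme.{u}).Opens, Function.Bijective (k.app O) := fun O => by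
    haveI : IsIso (k.appIso (k ⁻¹ᵁ O)).hom := inferInstance
    have h1 : k.app O = (V : Scheme.{u}).presheaf.map (homOfLE (k.image_preimage_le O)).op ≫ (k.appIso (k ⁻¹ᵁ O)).hom := by
      rw [Scheme.Hom.appIso_hom', Scheme.Hom.app_eq_appLE, Scheme.Hom.map_appLE]
    rw [h1]
    exact (((ConcreteCategory.isIso_iff_bijective (k.appIso (k ⁻¹ᵁ O)).hom).1 inferInstance)).comp (hb O)
  obtain ⟨N', hN', ⟨e⟩⟩ := hext (f ⁻¹ᵁ V) ((Scheme.Modules.pullback (f ∣_ Q)).obj L)
    (PicCl.isInvertible_pullback _ hL)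
  let φ : (Scheme.Modules.pullback (f ∣_ Q)).obj L ≅ (Scheme.Modules.pullback k').obj N' :=
    e.symm ≪≫ (Scheme.Modules.restrictFunctorIsoPullback k').app N'
  obtain ⟨hN, hε⟩ := LFDesc.isIso_counit_of_isPullback H hf L hL hN' φ
  exact ⟨_, hN, ⟨(Scheme.Modules.restrictFunctorIsoPullback k).app _ ≪≫ @asIso _ _ _ _ _ hε⟩⟩

include hc in
/-- Parafactoriality descends along quasi-compact faithfully flat morphisms. -/
theorem pair_of_descent (Y : Closeds X) (hY : Y.compl = U)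
    (h : ParaF.IsParafactorialPair X' (ParaF.closedsPreimage f Y)) : ParaF.IsParafactorialPair X Y := by
  subst hY
  obtain ⟨hres, hext⟩ := (pair_iff _).mp h
  exact (pair_iff _).mpr ⟨resBijOn f hc hres, ext f hc hres hext⟩

end Groth.Agent.ParaFLib.Descent
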