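import Groth.Agent.ParaFLib.PicUFD
import Groth.Agent.IdealSh.IdealMod
import Mathlib.RingTheory.Ideal.UFD

/-!
# Height one primes are principal when the big open has trivial Picard group and factorial local rings
-/

set_option backward.isDefEq.respectTransparency.types false
set_option linter.style.haveILetI false

noncomputable section

universe u

open CategoryTheory AlgebraicGeometry TopologicalSpace Opposite OmegaSh
open Groth.Agent.Omega.Stalks

namespace Groth.Agent.ParaFLib.Punctured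

open Groth.Agent.QCoh Groth.Agent.Props.GenLocus UFD

variable {X : Scheme.{u}} [IsAffine X] [IsIntegral X]

/-- A local equation of `p` near a point where the local ring is factorial. -/
theorem exists_equation [IsNoetherianRing Γ(X, ⊤)] (p : Ideal Γ(X, ⊤)) [p.IsPrime] (hht : p.height = 1)
    (x : X) (hx : UniqueFactorizationMonoid (X.presheaf.stalk x)) :
    ∃ π ∈ p, π ≠ 0 ∧ ∃ h : Γ(X, ⊤), x ∈ X.basicOpen h ∧ ∀ a ∈ p, π ∣ a * h := by
  classical
  letI : Algebra Γ(X, ⊤) (X.presheaf.stalk x) :=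
    TopCat.Presheaf.algebra_section_stalk X.presheaf (⟨x, trivial⟩ : (⊤ : X.Opens))
  let P := ((isAffineOpen_top X).primeIdealOf ⟨x, trivial⟩).asIdeal
  haveI : IsLocalization.AtPrime (X.presheaf.stalk x) P := (isAffineOpen_top X).isLocalization_stalk ⟨x, trivial⟩
  have hunit : ∀ h : Γ(X, ⊤), h ∉ P → x ∈ X.basicOpen h := fun h hh =>
    (X.mem_basicOpen_top h x).mpr ((IsLocalization.AtPrime.isUnit_to_map_iff (X.presheaf.stalk x) P h).mpr hh)
  have hp0 : p ≠ ⊥ := p.ne_bot_of_height_eq_one hht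
  by_cases hle : p ≤ P
  · have hd : Disjoint (P.primeCompl : Set Γ(X, ⊤)) (p : Set Γ(X, ⊤)) :=
      Set.disjoint_left.mpr fun s hs hsp => hs (hle hsp)
    let q := p.map (algebraMap Γ(X, ⊤) (X.presheaf.stalk x))
    haveI : q.IsPrime := IsLocalization.isPrime_of_isPrime_disjoint P.primeCompl _ p ‹_› hd
    have hq : q.comap (algebraMap Γ(X, ⊤) (X.presheaf.stalk x)) = p :=
      IsLocalization.under_map_of_isPrime_disjoint P.primeCompl _ ‹_› hd
    have hqh : q.height = 1 := by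
      rw [← IsLocalization.height_under P.primeCompl]
      exact (congrArg Ideal.height hq).trans hht
    obtain ⟨γ, hγ⟩ := (UniqueFactorizationMonoid.isPrincipal_of_height_eq_one hqh).principal
    obtain ⟨⟨π, s⟩, hπ⟩ := IsLocalization.surj P.primeCompl γ
    have hqspan : q = Ideal.span {algebraMap Γ(X, ⊤) (X.presheaf.stalk x) π} := by
      rw [hγ, ← hπ, Ideal.span_singleton_mul_right_unit (IsLocalization.map_units _ s)]
    have hπp : π ∈ p := hq.le (show algebraMap Γ(X, ⊤) (X.presheaf.stalk x) π ∈ q from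
      hqspan ▸ Ideal.subset_span rfl)
    have key : ∀ a ∈ p, ∃ h, h ∉ P ∧ π ∣ a * h := fun a ha => by
      obtain ⟨z, hz⟩ := Ideal.mem_span_singleton'.mp (hqspan.le (Ideal.mem_map_of_mem _ ha))
      obtain ⟨⟨w, r⟩, hr⟩ := IsLocalization.surj P.primeCompl z
      refine ⟨r, r.2, w, ?_⟩
      apply IsLocalization.injective (X.presheaf.stalk x) (P.primeCompl_le_nonZeroDivisors)
      rw [map_mul, map_mul, ← hz, ← hr]
      ring
    obtain ⟨S, hS⟩ := IsNoetherian.noetherian p
    choose h hh hdvd using key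
    let H : Γ(X, ⊤) := ∏ a ∈ S.attach, h a.1 (hS ▸ Ideal.subset_span a.2)
    have hH : H ∉ P := fun hmem => by
      obtain ⟨a, -, ha⟩ := Ideal.IsPrime.prod_mem_iff.mp hmem
      exact hh _ _ ha
    refine ⟨π, hπp, fun h0 => hp0 ?_, H, hunit H hH, fun a ha => ?_⟩
    · rw [← hq, hqspan, h0, map_zero, Ideal.span_singleton_zero]
      exact Ideal.comap_bot_of_injective _ (IsLocalization.injective _ P.primeCompl_le_nonZeroDivisors)
    · rw [← hS] at ha
      induction ha using Submodule.span_induction with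
      | mem a ha =>
        exact (hdvd a (hS ▸ Ideal.subset_span ha)).trans
          (mul_dvd_mul_left a (Finset.dvd_prod_of_mem _ (Finset.mem_attach S ⟨a, ha⟩)))
      | zero => simp
      | add a b _ _ ha hb => rw [add_mul]; exact dvd_add ha hb
      | smul c a _ ha => rw [smul_eq_mul, mul_assoc]; exact ha.mul_left c
  · obtain ⟨t, htp, htP⟩ := SetLike.not_le_iff_exists.mp hle
    exact ⟨t, htp, fun h0 => htP (h0 ▸ P.zero_mem), t, hunit t htP, fun a _ => dvd_mul_left t a⟩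

theorem isPrincipal [IsNoetherianRing Γ(X, ⊤)] (U : X.Opens)
    (hres : Function.Bijective (X.presheaf.map (homOfLE (le_top : U ≤ ⊤)).op))
    (hpic : ParaF.PicTrivial (U : Scheme.{u}))
    (hufd : ∀ x ∈ U, UniqueFactorizationMonoid (X.presheaf.stalk x))
    (p : Ideal Γ(X, ⊤)) [p.IsPrime] (hht : p.height = 1)
    (hpU : (isAffineOpen_top X).fromSpec ⟨p, inferInstance⟩ ∈ U) : p.IsPrincipal := by
  classical
  let 𝓘 := Scheme.IdealSheafData.ofIdealTop p
  let M := ClSub.idealMod 𝓘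
  have hid : ∀ (T : X.affineOpens), 𝓘.ideal T = p.map (rres (le_top : T.1 ≤ ⊤)).hom := fun T => by
    simp [𝓘]
  -- the ideal module is invertible on `U`
  have hloc : ∀ x ∈ U, ∃ D : X.Opens, D ≤ U ∧ x ∈ D ∧ Nonempty (M.restrict D.ι ≅ Coh.structureModule (D : Scheme.{u})) := by
    intro x hx
    obtain ⟨π, hπp, hπ0, h, hxh, hdvd⟩ := exists_equation p hht x (hufd x hx)
    obtain ⟨g, hg, hxg⟩ := (isAffineOpen_top X).exists_basicOpen_le (V := X.basicOpen h ⊓ U) ⟨x, hxh, hx⟩ trivial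
    let T : X.affineOpens := ⟨X.basicOpen g, (isAffineOpen_top X).basicOpen g⟩
    have hgh : T.1 ≤ X.basicOpen h := hg.trans inf_le_left
    have hne : T.1 ≠ ⊥ := fun hb => (hb ▸ hxg : x ∈ (⊥ : X.Opens))
    haveI : Nonempty (T.1 : Scheme.{u}) := nonempty_of_ne_bot hne
    have he : 𝓘.ideal T = Ideal.span {α T.1 π} := by
      rw [hid]
      refine le_antisymm (Ideal.map_le_iff_le_comap.mpr fun a ha => ?_) ?_
      · rw [Ideal.mem_comap, Ideal.mem_span_singleton]
        refine ((isUnit_α hgh).dvd_mul_right).mp ?_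
        exact (map_mul (rres (le_top : T.1 ≤ ⊤)).hom a h) ▸ map_dvd (rres (le_top : T.1 ≤ ⊤)).hom (hdvd a ha)
      · exact (Ideal.span_singleton_le_iff_mem _).mpr (Ideal.mem_map_of_mem _ hπp)
    have hf : α T.1 π ∈ nonZeroDivisors Γ(X, T.1) :=
      mem_nonZeroDivisors_of_ne_zero ((map_ne_zero_iff _ (rres_injective _ hne)).mpr hπ0)
    obtain ⟨e, hframe, -⟩ := IdealSh.IdealMod.exists_isFrame_of_equation 𝓘 hf he
    exact ⟨T.1, hg.trans inf_le_right, hxg, hframe.nonempty_restrict_iso⟩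
  have hMU : PicF.IsInvertible (M.restrict U.ι) := fun y => by
    obtain ⟨D, hDU, hyD, ⟨i⟩⟩ := hloc (U.ι y) y.2
    refine ⟨U.ι ⁻¹ᵁ D, hyD, ⟨?_⟩⟩
    let k : (U.ι ⁻¹ᵁ D : Scheme.{u}) ⟶ (D : Scheme.{u}) := U.ι ∣_ D
    exact ((Scheme.Modules.restrictFunctorComp (U.ι ⁻¹ᵁ D).ι U.ι).app M).symm ≪≫
      (Scheme.Modules.restrictFunctorCongr (morphismRestrict_ι U.ι D).symm).app M ≪≫
      (Scheme.Modules.restrictFunctorComp k D.ι).app M ≪≫
      (Scheme.Modules.restrictFunctor k).mapIso i ≪≫ Scheme.Modules.restrictUnitIso k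
  obtain ⟨φ⟩ := hpic _ hMU
  obtain ⟨e, he⟩ := LFFrame.exists_isFrame_of_split (M := M) (fun _ : Fin 1 => φ.inv) (fun _ => φ.hom)
    (fun a b => by simp [Subsingleton.elim a b]) (by simp)
  obtain ⟨t, ht⟩ := hres.2 (idealSect 𝓘 U (e 0))
  have htp : t ∈ p := by
    obtain ⟨g, hg, hxg⟩ := (isAffineOpen_top X).exists_basicOpen_le (V := U)
      ⟨(isAffineOpen_top X).fromSpec ⟨p, inferInstance⟩, hpU⟩ trivial
    let T : X.affineOpens := ⟨X.basicOpen g, (isAffineOpen_top X).basicOpen g⟩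
    have hmem := IdealSh.IdealMod.sect_mem 𝓘 T (M.presheaf.map (homOfLE hg).op (e 0))
    rw [idealSect_map, ← ht, hid] at hmem
    rw [show X.presheaf.map (homOfLE hg).op (X.presheaf.map (homOfLE (le_top : U ≤ ⊤)).op t) = rres (le_top : T.1 ≤ ⊤) t
      from rres_rres _ _ t] at hmem
    letI := (X.presheaf.map (homOfLE (X.basicOpen_le g)).op).hom.toAlgebra
    haveI := (isAffineOpen_top X).isLocalization_basicOpen g
    obtain ⟨⟨a, ⟨_, n, rfl⟩⟩, hn⟩ := (IsLocalization.mem_map_algebraMap_iff (Submonoid.powers g) Γ(X, T.1)).mp hmem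
    have hgp : g ∉ p := fun hgp => by
      have h2 : (⟨p, inferInstance⟩ : PrimeSpectrum Γ(X, ⊤)) ∈ (isAffineOpen_top X).fromSpec ⁻¹ᵁ X.basicOpen g := hxg
      rw [(isAffineOpen_top X).fromSpec_preimage_basicOpen] at h2
      exact h2 hgp
    have h3 : t * g ^ n = a := by
      apply rres_injective (le_top : T.1 ≤ ⊤) (fun hb => by
        have : (isAffineOpen_top X).fromSpec ⟨p, inferInstance⟩ ∈ (⊥ : X.Opens) := hb ▸ hxg
        exact this)
      rw [map_mul]
      exact hn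
    refine ((inferInstance : p.IsPrime).mem_or_mem (h3 ▸ a.2)).resolve_right fun h => hgp ?_
    exact (inferInstance : p.IsPrime).mem_of_pow_mem n h
  refine ⟨t, le_antisymm (fun a ha => ?_) ((Ideal.span_singleton_le_iff_mem _).mpr htp)⟩
  have hzero : 𝓘.subschemeι.app U (rres (le_top : U ≤ ⊤) a) = 0 := by
    have h1 : 𝓘.subschemeι.app ⊤ a = 0 := by
      refine (IdealSh.IdealMod.mem_ideal_iff 𝓘 ⟨⊤, isAffineOpen_top X⟩ a).mp ?_
      rw [hid]
      have h2 := Ideal.mem_map_of_mem (rres (le_top : (⊤ : X.Opens) ≤ ⊤)).hom ha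
      rwa [show (rres (le_top : (⊤ : X.Opens) ≤ ⊤)).hom a = a from rres_self _ a] at h2
    rw [rres, ← ConcreteCategory.comp_apply, Scheme.Hom.naturality, ConcreteCategory.comp_apply, h1, map_zero]
  obtain ⟨m, hm⟩ := IdealSh.IdealMod.exists_sect 𝓘 U _ hzero
  obtain ⟨c, rfl⟩ := (he U le_rfl).2 m
  obtain ⟨b, hb⟩ := hres.2 (c 0)
  refine Ideal.mem_span_singleton'.mpr ⟨b, hres.1 ?_⟩
  rw [map_mul, hb, ← hm, ht, LFFrame.comb, Fin.sum_univ_one, idealSect_smul, idealSect_map]
  congr 1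
  exact (rres_self _ _).symm

end Groth.Agent.ParaFLib.Punctured
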