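import Groth.Agent.ParaFLib.Punctured
import Mathlib.RingTheory.LocalRing.RingHom.Basic

/-!
# Factoriality of a local ring through its punctured spectrum
-/

set_option backward.isDefEq.respectTransparency.types false
set_option linter.style.haveILetI false

noncomputable section

universe u

open CategoryTheory AlgebraicGeometry TopologicalSpace Opposite

namespace Groth.Agent.ParaFLib.PuncturedLocal

variable (A : Type u) [CommRing A] [IsNoetherianRing A]

theorem stalkEquiv (y : PrimeSpectrum A) :
    Nonempty (Localization.AtPrime y.asIdeal ≃+* (Spec (CommRingCat.of A)).presheaf.stalk y) := by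
  haveI : IsLocalization.AtPrime ((Spec.structureSheaf A).presheaf.stalk y) y.asIdeal := inferInstance
  exact ⟨(IsLocalization.algEquiv y.asIdeal.primeCompl (Localization.AtPrime y.asIdeal)
    ((Spec.structureSheaf A).presheaf.stalk y)).toRingEquiv⟩

theorem stalk_ufd [IsDomain A] (hA : UniqueFactorizationMonoid A) (y : PrimeSpectrum A) :
    IsDomain ((Spec (CommRingCat.of A)).presheaf.stalk y) ∧
      UniqueFactorizationMonoid ((Spec (CommRingCat.of A)).presheaf.stalk y) := by
  obtain ⟨e⟩ := stalkEquiv A y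
  haveI : IsDomain (Localization.AtPrime y.asIdeal) :=
    IsLocalization.isDomain_localization y.asIdeal.primeCompl_le_nonZeroDivisors
  haveI : IsDomain ((Spec (CommRingCat.of A)).presheaf.stalk y) := e.symm.injective.isDomain e.symm.toRingHom
  exact ⟨this, MulEquiv.uniqueFactorizationMonoid e.toMulEquiv inferInstance⟩

theorem isDomain_and_closed_of_stalks [IsLocalRing A] (hd : (2 : ℕ∞) ≤ LocCoh.depth A A)
    (hs : ∀ y : ↥(Spec (CommRingCat.of A)), y ∈ FEt.puncturedSpec A →
      IsDomain ((Spec (CommRingCat.of A)).presheaf.stalk y) ∧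
        UniqueFactorizationMonoid ((Spec (CommRingCat.of A)).presheaf.stalk y)) :
    IsDomain A ∧ IsIntegrallyClosed A := by
  have key : ∀ (q : Ideal A) [q.IsPrime], q ≠ IsLocalRing.maximalIdeal A →
      IsDomain (Localization.AtPrime q) ∧ IsIntegrallyClosed (Localization.AtPrime q) := by
    intro q hq hne
    let y : PrimeSpectrum A := ⟨q, hq⟩
    obtain ⟨h1, h2⟩ := hs y (fun e => hne (congrArg PrimeSpectrum.asIdeal e))
    obtain ⟨e₀⟩ := stalkEquiv A y
    let e := e₀.symm
    haveI := h1
    haveI := h2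
    haveI : IsDomain (Localization.AtPrime q) := e.symm.injective.isDomain e.symm.toRingHom
    have : UniqueFactorizationMonoid (Localization.AtPrime q) := MulEquiv.uniqueFactorizationMonoid e.toMulEquiv h2
    exact ⟨inferInstance, inferInstance⟩
  haveI := RegLoc.Serre.isDomain_of_depth hd (fun q _ hne => (key q hne).1)
  exact ⟨this, RegLoc.Serre.isIntegrallyClosed_of_depth hd (fun q _ hne => (key q hne).2)⟩

variable [IsDomain A] [IsLocalRing A]

theorem ufd_of_punctured (hdim : (2 : WithBot ℕ∞) ≤ ringKrullDim A) (hdep : (2 : ℕ∞) ≤ LocCoh.depth A A)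
    (hs : ∀ y : ↥(Spec (CommRingCat.of A)), y ∈ FEt.puncturedSpec A →
      UniqueFactorizationMonoid ((Spec (CommRingCat.of A)).presheaf.stalk y))
    (hpic : ParaF.PicTrivial (FEt.puncturedSpec A : Scheme.{u})) : UniqueFactorizationMonoid A := by
  refine UniqueFactorizationMonoid.of_forall_isPrincipal_of_height_eq_one fun p _ hp => ?_
  let X := Spec (CommRingCat.of A)
  let ε : Γ(X, ⊤) ≃+* A := (Scheme.ΓSpecIso (CommRingCat.of A)).commRingCatIsoToRingEquiv
  haveI : IsNoetherianRing Γ(X, ⊤) := isNoetherianRing_of_ringEquiv A ε.symm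
  let p' : Ideal Γ(X, ⊤) := p.comap ε.toRingHom
  haveI : p'.IsPrime := Ideal.IsPrime.comap _
  have hh : p'.height = 1 := (RingEquiv.height_comap ε p).trans hp
  have hpU : (isAffineOpen_top X).fromSpec ⟨p', inferInstance⟩ ∈ FEt.puncturedSpec A := by
    intro he
    have hmem : ∀ g : Γ(X, ⊤), g ∉ p' ↔ ε g ∉ IsLocalRing.maximalIdeal A := by
      intro g
      have h2 : (⟨p', inferInstance⟩ : PrimeSpectrum Γ(X, ⊤)) ∈ (isAffineOpen_top X).fromSpec ⁻¹ᵁ X.basicOpen g ↔
          (isAffineOpen_top X).fromSpec ⟨p', inferInstance⟩ ∈ X.basicOpen g := Iff.rfl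
      rw [(isAffineOpen_top X).fromSpec_preimage_basicOpen] at h2
      refine h2.trans ?_
      rw [show (isAffineOpen_top X).fromSpec ⟨p', inferInstance⟩ = IsLocalRing.closedPoint A from he,
        basicOpen_eq_of_affine']
      rfl
    have hpm : p = IsLocalRing.maximalIdeal A := by
      ext a
      obtain ⟨g, rfl⟩ := ε.surjective a
      exact not_iff_not.mp (hmem g)
    rw [hpm] at hp
    have h2 := IsLocalRing.maximalIdeal_height_eq_ringKrullDim (R := A)
    rw [hp] at h2
    rw [← h2] at hdim
    exact absurd (WithBot.coe_le_coe.mp hdim) (by norm_num)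
  obtain ⟨t, ht⟩ := (Punctured.isPrincipal (X := X) (FEt.puncturedSpec A) (PicUFD.bijective_punctured A hdep) hpic
    hs p' hh hpU).principal
  refine ⟨ε t, ?_⟩
  have h3 : p = p'.map ε.toRingHom := (Ideal.map_comap_of_surjective _ ε.surjective p).symm
  rw [h3, ht]
  exact (Ideal.map_span _ _).trans (congrArg Ideal.span (Set.image_singleton))

end Groth.Agent.ParaFLib.PuncturedLocal
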