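import Groth.Agent.Props.GenLocus
import Mathlib.RingTheory.UniqueFactorizationDomain.GCDMonoid
import Mathlib.AlgebraicGeometry.Properties

/-!
# Invertible modules on opens of the spectrum of a factorial domain are trivial
-/

set_option backward.isDefEq.respectTransparency.types false

noncomputable section

universe u

open CategoryTheory AlgebraicGeometry TopologicalSpace Opposite

namespace Groth.Agent.ParaFLib.UFD

open Groth.Agent.Props.GenLocus Groth.Agent.QCoh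

theorem exists_saturation {R : Type*} [CommRing R] [IsDomain R] [UniqueFactorizationMonoid R] (g b : R) (hb : b ≠ 0) :
    ∃ b', b' ∣ b ∧ (∃ n, b ∣ b' * g ^ n) ∧ ∀ a n, b' ∣ a * g ^ n → b' ∣ a := by
  obtain ⟨b', ⟨hdvd, n, hn⟩, hmin⟩ := (wellFounded_dvdNotUnit (α := R)).has_min
    {c | c ∣ b ∧ ∃ n, b ∣ c * g ^ n} ⟨b, dvd_rfl, 0, by simp⟩
  have hb' : b' ≠ 0 := fun h => hb (zero_dvd_iff.mp (h ▸ hdvd))
  have hrel : IsRelPrime b' g := (UniqueFactorizationMonoid.isRelPrime_iff_no_prime_factors hb').mpr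
    fun p hpb hpg hp => by
      obtain ⟨c, rfl⟩ := hpb
      have hc : c ≠ 0 := fun h => hb' (by rw [h, mul_zero])
      refine hmin c ⟨(dvd_mul_left c p).trans hdvd, n + 1, hn.trans ?_⟩ ⟨hc, p, hp.not_unit, mul_comm p c⟩
      obtain ⟨q, rfl⟩ := hpg
      exact ⟨q, by ring⟩
  exact ⟨b', hdvd, ⟨n, hn⟩, fun a m h => (IsRelPrime.pow_right hrel).dvd_of_dvd_mul_right h⟩

theorem exists_lcm {R : Type*} [CommRing R] [IsDomain R] [UniqueFactorizationMonoid R] {ι : Type*} (s : Finset ι)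
    (b : ι → R) : ∃ c, ∀ d, c ∣ d ↔ ∀ i ∈ s, b i ∣ d := by
  classical
  let := UniqueFactorizationMonoid.toGCDMonoid R
  induction s using Finset.induction with
  | empty => exact ⟨1, by simp⟩
  | insert i s hi ih =>
    obtain ⟨c, hc⟩ := ih
    exact ⟨lcm (b i) c, fun d => by simp [lcm_dvd_iff, hc]⟩

variable {X : Scheme.{u}} [IsAffine X] [IsIntegral X]

/-- Restriction of a global function to a basic open. -/
abbrev α (V : X.Opens) (a : Γ(X, ⊤)) : Γ(X, V) := rres (le_top : V ≤ ⊤) a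

omit [IsAffine X] [IsIntegral X] in
theorem nonempty_of_ne_bot {V : X.Opens} (hV : V ≠ ⊥) : Nonempty (V : Scheme.{u}) := by
  obtain ⟨x, hx⟩ := (Opens.ne_bot_iff_nonempty V).mp hV
  exact ⟨⟨x, hx⟩⟩

omit [IsAffine X] in
theorem rres_injective {U V : X.Opens} (h : V ≤ U) (hV : V ≠ ⊥) : Function.Injective (rres h) := by
  have : Nonempty (V : Scheme.{u}) := nonempty_of_ne_bot hV
  exact map_injective_of_isIntegral X (homOfLE h)

omit [IsAffine X] in
theorem basicOpen_ne_bot {g : Γ(X, ⊤)} (hg : g ≠ 0) : X.basicOpen g ≠ ⊥ :=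
  fun h => hg ((basicOpen_eq_bot_iff g).mp h)

theorem isUnit_α {g : Γ(X, ⊤)} {V : X.Opens} (h : V ≤ X.basicOpen g) : IsUnit (α V g) := by
  have h1 : IsUnit (α (X.basicOpen g) g) := X.toRingedSpace.isUnit_res_basicOpen g
  have h2 := h1.map (rres h).hom
  rwa [show (rres h).hom (α (X.basicOpen g) g) = α V g from rres_rres _ h g] at h2

theorem exists_num (g : Γ(X, ⊤)) (z : Γ(X, X.basicOpen g)) :
    ∃ (a : Γ(X, ⊤)) (n : ℕ), z * α (X.basicOpen g) g ^ n = α (X.basicOpen g) a := by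
  let := (X.presheaf.map (homOfLE (X.basicOpen_le g)).op).hom.toAlgebra
  have := (isAffineOpen_top X).isLocalization_basicOpen g
  obtain ⟨n, a, ha⟩ := IsLocalization.Away.surj g z
  exact ⟨a, n, by rw [← map_pow] at ha ⊢; exact ha⟩

theorem exists_isGen [UniqueFactorizationMonoid Γ(X, ⊤)] (M : X.Modules) (U : X.Opens)
    {ι : Type*} [Fintype ι] (g : ι → Γ(X, ⊤)) (hg : ∀ i, g i ≠ 0) (hU : U = ⨆ i, X.basicOpen (g i))
    (e : ∀ i, Γ(M, X.basicOpen (g i))) (he : ∀ i, IsGen M (X.basicOpen (g i)) (e i)) :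
    ∃ s : Γ(M, U), IsGen M U s := by
  classical
  have hle : ∀ i, X.basicOpen (g i) ≤ U := fun i => hU ▸ le_iSup (fun i => X.basicOpen (g i)) i
  rcases isEmpty_or_nonempty ι with hι | ⟨⟨i₀⟩⟩
  · refine ⟨0, IsGen.of_local fun x hx => ?_⟩
    rw [hU] at hx
    obtain ⟨i, -⟩ := Opens.mem_iSup.mp hx
    exact isEmptyElim i
  have hD : ∀ a : Γ(X, ⊤), a ≠ 0 → ∀ V : X.Opens, X.basicOpen a ≤ V → V ≠ ⊥ := fun a ha V h hV =>
    basicOpen_ne_bot ha (le_bot_iff.mp (hV ▸ h))
  -- the coefficient of the base generator in every chart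
  let P : ι → X.Opens := fun k => X.basicOpen (g k * g i₀)
  have hPk : ∀ k, P k ≤ X.basicOpen (g k) := fun k => (X.basicOpen_mul _ _).trans_le inf_le_left
  have hP0 : ∀ k, P k ≤ X.basicOpen (g i₀) := fun k => (X.basicOpen_mul _ _).trans_le inf_le_right
  have hPne : ∀ k, P k ≠ ⊥ := fun k => basicOpen_ne_bot (mul_ne_zero (hg k) (hg i₀))
  choose v hv _ using fun k => (he k).exists_eq (hPk k) (res M (hP0 k) (e i₀))
  choose a₀ n hn using fun k => exists_num (g k * g i₀) (v k)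
  let N : ℕ := Finset.univ.sup n
  let a : ι → Γ(X, ⊤) := fun k => a₀ k * (g k * g i₀) ^ (N - n k)
  have ha : ∀ k, v k * α (P k) (g k * g i₀) ^ N = α (P k) (a k) := fun k => by
    have e1 : n k + (N - n k) = N := Nat.add_sub_cancel' (Finset.le_sup (f := n) (Finset.mem_univ k))
    conv_lhs => rw [← e1, pow_add, ← mul_assoc]
    show v k * α (X.basicOpen (g k * g i₀)) (g k * g i₀) ^ n k * α (P k) (g k * g i₀) ^ (N - n k) = _
    rw [hn k]
    simp [α, a, P]
  have hv0 : ∀ k, v k ≠ 0 := fun k h0 => by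
    have h1 := hv k
    rw [h0, zero_smul] at h1
    have h2 : (1 : Γ(X, P k)) • res M (hP0 k) (e i₀) = (0 : Γ(X, P k)) • res M (hP0 k) (e i₀) := by
      rw [one_smul, zero_smul, h1]
    have h3 : (1 : Γ(X, P k)) = 0 := (he i₀).injective (hP0 k) h2
    have : Nonempty (P k : Scheme.{u}) := nonempty_of_ne_bot (hPne k)
    exact one_ne_zero h3
  have hak : ∀ k, a k ≠ 0 := fun k h0 => by
    have h1 := ha k
    rw [h0, show α (P k) (0 : Γ(X, ⊤)) = 0 from map_zero _] at h1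
    exact hv0 k (((isUnit_α (le_refl (P k))).pow N).mul_left_eq_zero.mp h1)
  -- the relation between two charts
  let Q : ι → ι → X.Opens := fun k l => X.basicOpen (g k) ⊓ X.basicOpen (g l)
  have key : ∀ k l, ∀ x : Γ(X, Q k l), res M (inf_le_right : Q k l ≤ _) (e l) = x • res M (inf_le_left : Q k l ≤ _) (e k) →
      α (Q k l) (a k * g l ^ N) = α (Q k l) (a l * g k ^ N) * x := by
    intro k l x hx
    let T : X.Opens := Q k l ⊓ X.basicOpen (g i₀)
    have hTk : T ≤ P k := le_of_le_of_eq (le_inf (inf_le_left.trans inf_le_left) inf_le_right) (X.basicOpen_mul _ _).symm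
    have hTl : T ≤ P l := le_of_le_of_eq (le_inf (inf_le_left.trans inf_le_right) inf_le_right) (X.basicOpen_mul _ _).symm
    have hT : T ≠ ⊥ := hD (g k * g l * g i₀) (mul_ne_zero (mul_ne_zero (hg k) (hg l)) (hg i₀)) T (by
      rw [X.basicOpen_mul, X.basicOpen_mul])
    apply rres_injective (inf_le_left : T ≤ Q k l) hT
    rw [map_mul, rres_rres, rres_rres]
    refine (he k).injective (inf_le_left.trans inf_le_left : T ≤ X.basicOpen (g k)) ?_
    have e1 := congrArg (res M hTk) (hv k)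
    have e2 := congrArg (res M hTl) (hv l)
    have e3 := congrArg (res M (inf_le_left : T ≤ Q k l)) hx
    rw [res_smul, res_res, res_res] at e1 e2 e3
    have a1 := congrArg (rres hTk) (ha k)
    have a2 := congrArg (rres hTl) (ha l)
    simp only [α, map_mul, map_pow, rres_rres] at a1 a2 ⊢
    rw [← a1, ← a2]
    calc _ = (rres (le_top : T ≤ ⊤) (g l) ^ N * (rres (le_top : T ≤ ⊤) (g k) * rres (le_top : T ≤ ⊤) (g i₀)) ^ N) •
          (rres hTk (v k) • res M ((hTk).trans (hPk k)) (e k)) := by rw [smul_smul]; congr 1; ring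
      _ = (rres (le_top : T ≤ ⊤) (g l) ^ N * (rres (le_top : T ≤ ⊤) (g k) * rres (le_top : T ≤ ⊤) (g i₀)) ^ N) •
          (rres hTl (v l) • res M ((hTl).trans (hPk l)) (e l)) := by rw [← e1, ← e2]
      _ = _ := by rw [e3, smul_smul, smul_smul]; congr 1; ring
  have hQ : ∀ k l, Q k l = X.basicOpen (g k * g l) := fun k l => (X.basicOpen_mul _ _).symm
  have hQne : ∀ k l, Q k l ≠ ⊥ := fun k l => hQ k l ▸ basicOpen_ne_bot (mul_ne_zero (hg k) (hg l))
  choose b hb hb' hsat using fun k => exists_saturation (g k) (a k) (hak k)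
  obtain ⟨c, hc⟩ := exists_lcm Finset.univ b
  have hcross : ∀ k l, ∃ m, b l ∣ b k * g k ^ m := by
    intro k l
    obtain ⟨x, hx, -⟩ := (he k).exists_eq (inf_le_left : Q k l ≤ _) (res M (inf_le_right : Q k l ≤ _) (e l))
    have h1 := key k l x hx
    obtain ⟨p, m, hm⟩ : ∃ (p : Γ(X, ⊤)) (m : ℕ), x * α (Q k l) (g k * g l) ^ m = α (Q k l) p := by
      have hgen : ∀ V : X.Opens, V = X.basicOpen (g k * g l) → ∀ z : Γ(X, V),
          ∃ (p : Γ(X, ⊤)) (m : ℕ), z * α V (g k * g l) ^ m = α V p := by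
        rintro V rfl z
        exact exists_num _ z
      exact hgen _ (hQ k l) x
    have h2 : a k * g l ^ N * (g k * g l) ^ m = a l * g k ^ N * p := by
      apply rres_injective (le_top : Q k l ≤ ⊤) (hQne k l)
      simp only [α, map_mul, map_pow] at h1 hm ⊢
      rw [h1, ← hm]
      ring
    obtain ⟨m₁, hm₁⟩ := hb' k
    refine ⟨m + m₁, hsat l _ (N + m) ?_⟩
    have h4 : b l ∣ a k * g l ^ N * (g k * g l) ^ m := h2 ▸ dvd_mul_of_dvd_left (dvd_mul_of_dvd_left (hb l) _) _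
    obtain ⟨t, ht⟩ := hm₁
    refine h4.trans ⟨t, ?_⟩
    linear_combination (g k ^ m * g l ^ N * g l ^ m) * ht
  have hck : ∀ k, ∃ m, c ∣ b k * g k ^ m ∧ b k ∣ c := by
    intro k
    choose m hm using hcross k
    refine ⟨Finset.univ.sup m, (hc _).mpr fun l _ => (hm l).trans ?_, (hc c).mp dvd_rfl k (Finset.mem_univ k)⟩
    exact mul_dvd_mul_left _ (pow_dvd_pow _ (Finset.le_sup (f := m) (Finset.mem_univ l)))
  have hw : ∀ k, ∃ w : Γ(X, X.basicOpen (g k)), IsUnit w ∧
      α (X.basicOpen (g k)) (a k) = α (X.basicOpen (g k)) c * w * α (X.basicOpen (g k)) (g k) ^ N := by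
    intro k
    have : Nonempty (X.basicOpen (g k) : Scheme.{u}) := nonempty_of_ne_bot (basicOpen_ne_bot (hg k))
    obtain ⟨m, hm1, hm2⟩ := hck k
    obtain ⟨m₁, hm₁⟩ := hb' k
    let φ := (rres (le_top : X.basicOpen (g k) ≤ ⊤)).hom
    have hu : ∀ j : ℕ, IsUnit (φ (g k) ^ j) := fun j => (isUnit_α (le_refl (X.basicOpen (g k)))).pow j
    have d1 : φ c ∣ φ (a k) := by
      refine ((hu m).dvd_mul_right).mp ?_
      rw [← map_pow, ← map_mul]
      exact map_dvd φ (hm1.trans (mul_dvd_mul_right (hb k) _))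
    have d2 : φ (a k) ∣ φ c := by
      refine ((hu m₁).dvd_mul_right).mp ?_
      rw [← map_pow, ← map_mul]
      exact map_dvd φ (hm₁.trans (mul_dvd_mul_right hm2 _))
    obtain ⟨u, hu'⟩ := associated_of_dvd_dvd d1 d2
    refine ⟨u * ↑(hu N).unit⁻¹, u.isUnit.mul (Units.isUnit _), ?_⟩
    show φ (a k) = φ c * (↑u * ↑(hu N).unit⁻¹) * φ (g k) ^ N
    rw [← hu', mul_assoc, mul_assoc, IsUnit.val_inv_mul, mul_one]
  choose w hw₁ hw₂ using hw
  have hc0 : c ≠ 0 := by
    intro h0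
    obtain ⟨m, hm1, -⟩ := hck i₀
    rw [h0, zero_dvd_iff] at hm1
    have : b i₀ ≠ 0 := fun h => hak i₀ (by
      obtain ⟨m₁, hm₁⟩ := hb' i₀
      rw [h, zero_mul] at hm₁
      exact zero_dvd_iff.mp (show (0 : Γ(X, ⊤)) ∣ a i₀ from h ▸ hb i₀))
    exact mul_ne_zero this (pow_ne_zero _ (hg i₀)) hm1
  obtain ⟨s, hs⟩ := exists_glue M hle hU.le (fun k => w k • e k) fun k l => by
    show res M (inf_le_left : Q k l ≤ _) _ = res M (inf_le_right : Q k l ≤ _) _
    obtain ⟨x, hx, -⟩ := (he k).exists_eq (inf_le_left : Q k l ≤ _) (res M (inf_le_right : Q k l ≤ _) (e l))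
    have h1 := key k l x hx
    have hwk := congrArg (rres (inf_le_left : Q k l ≤ X.basicOpen (g k))) (hw₂ k)
    have hwl := congrArg (rres (inf_le_right : Q k l ≤ X.basicOpen (g l))) (hw₂ l)
    simp only [α, map_mul, map_pow, rres_rres] at h1 hwk hwl
    rw [hwk, hwl] at h1
    rw [res_smul, res_smul, hx, smul_smul]
    congr 1
    have : Nonempty (Q k l : Scheme.{u}) := nonempty_of_ne_bot (hQne k l)
    have hne : rres (le_top : Q k l ≤ ⊤) c * rres (le_top : Q k l ≤ ⊤) (g k) ^ N * rres (le_top : Q k l ≤ ⊤) (g l) ^ N ≠ 0 := by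
      rw [← map_pow, ← map_pow, ← map_mul, ← map_mul]
      exact (map_ne_zero_iff _ (rres_injective (le_top : Q k l ≤ ⊤) (hQne k l))).mpr
        (mul_ne_zero (mul_ne_zero hc0 (pow_ne_zero _ (hg k))) (pow_ne_zero _ (hg l)))
    refine mul_left_cancel₀ hne ?_
    linear_combination h1
  refine ⟨s, IsGen.of_local fun x hx => ?_⟩
  rw [hU] at hx
  obtain ⟨k, hk⟩ := Opens.mem_iSup.mp hx
  exact ⟨_, hle k, hk, (hs k).symm ▸ (he k).smul_unit (hw₁ k)⟩

/-- Invertible sheaves on opens of the spectrum of a factorial domain have a global generator. -/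
theorem exists_isGen_of_local [UniqueFactorizationMonoid Γ(X, ⊤)] (M : X.Modules) (U : X.Opens)
    (hU : IsCompact (U : Set X))
    (h : ∀ x ∈ U, ∃ (W : X.Opens) (e : Γ(M, W)), x ∈ W ∧ IsGen M W e) :
    ∃ s : Γ(M, U), IsGen M U s := by
  classical
  have h' : ∀ x : U, ∃ g : Γ(X, ⊤), X.basicOpen g ≤ U ∧ (x : X) ∈ X.basicOpen g ∧
      ∃ e : Γ(M, X.basicOpen g), IsGen M (X.basicOpen g) e := by
    intro x
    obtain ⟨W, e, hxW, he⟩ := h x x.2
    obtain ⟨g, hg, hxg⟩ := (isAffineOpen_top X).exists_basicOpen_le (V := W ⊓ U) ⟨(x : X), hxW, x.2⟩ trivial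
    exact ⟨g, hg.trans inf_le_right, hxg, _, he.restrict (hg.trans inf_le_left)⟩
  choose g hgU hxg e he using h'
  obtain ⟨t, ht⟩ := hU.elim_finite_subcover (fun x => (X.basicOpen (g x) : Set X)) (fun x => (X.basicOpen (g x)).2)
    (fun x hx => Set.mem_iUnion.mpr ⟨⟨x, hx⟩, hxg ⟨x, hx⟩⟩)
  refine exists_isGen M U (fun i : t => g i.1) (fun i h0 => ?_) ?_ (fun i => e i.1) (fun i => he i.1)
  · have := hxg i.1
    rw [h0, X.basicOpen_zero] at this
    exact this
  · refine le_antisymm (fun x hx => ?_) (iSup_le fun i => hgU i.1)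
    obtain ⟨i, hi, hxi⟩ := Set.mem_iUnion₂.mp (ht hx)
    exact Opens.mem_iSup.mpr ⟨⟨i, hi⟩, hxi⟩

end Groth.Agent.ParaFLib.UFD
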